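import Cfsg.Agent.Steiner.SRG77.Classes
import Cfsg.Agent.Steiner.Graphs
import Cfsg.Agent.Golay.Steiner3622

/-!
The cocliques of size 21 are the points of a Steiner system S(3, 6, 22); uniqueness of the graph.
-/

set_option autoImplicit false

namespace Cfsg.Lib.SRG77

open Finset SimpleGraph Cfsg

universe u

variable {V : Type u} [Fintype V] [DecidableEq V] {G : SimpleGraph V} [DecidableRel G.Adj]

/-- The cocliques of size 21. -/
def pts (G : SimpleGraph V) [DecidableRel G.Adj] : Finset (Finset V) :=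
  ((univ : Finset V).powersetCard 21).filter fun C => ∀ a ∈ C, ∀ b ∈ C, ¬ G.Adj a b

theorem mem_pts {C : Finset V} : C ∈ pts G ↔ C.card = 21 ∧ ∀ a ∈ C, ∀ b ∈ C, ¬ G.Adj a b := by
  simp [pts, mem_powersetCard]

theorem six_to_coclique (h : G.IsSRGWith 77 16 0 4) {C : Finset V} (hC : C ∈ pts G) {v : V} (hv : v ∉ C) :
    (G.neighborFinset v ∩ C).card = 6 := by
  obtain ⟨hc, hind⟩ := mem_pts.1 hC
  let x : V → ℤ := fun u => if u ∈ C then 1 else 0
  have hs : ∑ u, x u = 21 := by simp [x, Finset.filter_mem_eq_inter, hc]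
  have happ : ∀ u, app G x u = (if u ∈ C then 2 else 0) + 21 - ((G.neighborFinset u ∩ C).card : ℤ) := fun u => by
    simp [app, x, ent, Finset.sum_sub_distrib, Finset.sum_add_distrib, sum_adjZ, hc]
  have hin : ∀ u ∈ C, app G x u = 23 := fun u hu => by
    have : G.neighborFinset u ∩ C = ∅ := eq_empty_iff_forall_notMem.2 fun w hw => by
      rw [mem_inter, mem_neighborFinset] at hw
      exact hind u hu w hw.2 hw.1
    rw [happ, if_pos hu, this]; norm_num
  have hq : ∑ u, x u * app G x u = 483 := by
    simp only [x, ite_mul, one_mul, zero_mul, Finset.sum_ite_mem, univ_inter]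
    rw [Finset.sum_congr rfl hin]
    simp [hc]
  have h2 := sum_app_sq h x
  have h1 := sum_app h x
  rw [hs, hq] at h2
  rw [hs] at h1
  have hnn : ∀ u ∈ (univ : Finset V), 0 ≤ (app G x u - 15) ^ 2 - (if u ∈ C then 64 else 0) := fun u _ => by
    split
    · rename_i hu; rw [hin u hu]; norm_num
    · simpa using sq_nonneg (app G x u - 15)
  have hz : ∑ u, ((app G x u - 15) ^ 2 - (if u ∈ C then 64 else 0)) = 0 := by
    rw [Finset.sum_sub_distrib, Finset.sum_congr rfl fun u _ => show (app G x u - 15) ^ 2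
        = app G x u ^ 2 - 30 * app G x u + 225 by ring,
      Finset.sum_add_distrib, Finset.sum_sub_distrib, ← Finset.mul_sum, h2, h1, Finset.sum_const, Finset.card_univ,
      h.card, Finset.sum_ite_mem, univ_inter, Finset.sum_const, hc]
    norm_num
  have := (Finset.sum_eq_zero_iff_of_nonneg hnn).1 hz v (mem_univ v)
  rw [if_neg hv, sub_zero, sq_eq_zero_iff, sub_eq_zero, happ, if_neg hv] at this
  omega

/-- Around a vertex of a coclique of size 21 the other vertices form classes pairwise meeting. -/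
theorem coclique_structure (h : G.IsSRGWith 77 16 0 4) {C : Finset V} (hC : C ∈ pts G) {o : V} (ho : o ∈ C)
    {b : V} (hb : b ∈ C) (hbo : b ≠ o) :
    b ∈ non G o ∧ cls G o b ⊆ C ∧ ∀ e ∈ C, e ≠ o → e ∉ cls G o b → inv2 G o b e = 1 := by
  obtain ⟨hc, hind⟩ := mem_pts.1 hC
  have hnon : ∀ e ∈ C, e ≠ o → e ∈ non G o := fun e he hne => mem_non.2 ⟨hne, hind o ho e he⟩
  have hbn := hnon b hb hbo
  set S := (C.erase o).erase b with hS
  have hSc : S.card = 19 := by rw [hS, card_erase_of_mem (mem_erase.2 ⟨hbo, hb⟩), card_erase_of_mem ho, hc]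
  have hmemS : ∀ {e}, e ∈ S ↔ e ≠ b ∧ e ≠ o ∧ e ∈ C := fun {e} => by simp [S]
  have hsum : ∑ e ∈ S, meet3 G o b e = 16 := by
    simp only [meet3_eq_sum]
    rw [Finset.sum_comm, Finset.sum_congr rfl (g := fun _ => (4 : ℤ)) fun a ha => by
      obtain ⟨hoa, hba⟩ := mem_trace.1 ha
      have haC : a ∉ C := fun hh => hind o ho a hh hoa
      have e : G.neighborFinset a ∩ S = ((G.neighborFinset a ∩ C).erase o).erase b := by
        ext v; simp [S]; tauto
      rw [sum_adjZ, e, card_erase_of_mem (by simp [hbo, hba.symm, hb]), card_erase_of_mem (by simp [hoa.symm, ho]),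
        six_to_coclique h hC haC]
      rfl]
    simp [card_trace h hbn]
  set P := (cls G o b).erase b with hP
  have hPc : P.card = 3 := by rw [hP, card_erase_of_mem (self_mem_cls h hbn), card_cls h hbn]
  have hge : ∀ e ∈ S, (if e ∈ P then 0 else 1) ≤ meet3 G o b e := by
    intro e he
    obtain ⟨heb, heo, heC⟩ := hmemS.1 he
    have h0 : 0 ≤ meet3 G o b e := Int.natCast_nonneg _
    split
    · exact h0
    · rename_i hn
      by_contra hlt
      refine hn (mem_erase.2 ⟨heb, mem_cls.2 ⟨hnon e heC heo, ?_⟩⟩)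
      exact (inv2_ne h hbn (hnon e heC heo) (Ne.symm heb)).2.1.2 ⟨hind b hb e heC, by omega⟩
  have hcount : ∑ e ∈ S, (if e ∈ P then (0 : ℤ) else 1) = 19 - ((S ∩ P).card : ℤ) := by
    have := Finset.card_sdiff_add_card_inter S P
    rw [Finset.sum_ite, Finset.sum_const_zero, zero_add, Finset.sum_const, filter_notMem_eq_sdiff, nsmul_one]
    omega
  have hle : (S ∩ P).card ≤ 3 := hPc ▸ card_le_card inter_subset_right
  have hsl := Finset.sum_le_sum hge
  rw [hcount, hsum] at hsl
  have h3 : (S ∩ P).card = 3 := by omega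
  have hPS : P ⊆ S := by
    have := eq_of_subset_of_card_le (inter_subset_right : S ∩ P ⊆ P) (by omega)
    rw [← this]; exact inter_subset_left
  refine ⟨hbn, fun e he => ?_, fun e heC heo hecls => ?_⟩
  · rcases eq_or_ne e b with rfl | hne
    · exact hb
    · exact (hmemS.1 (hPS (mem_erase.2 ⟨hne, he⟩))).2.2
  · have heb : e ≠ b := fun e' => hecls (by rw [e']; exact self_mem_cls h hbn)
    have heS : e ∈ S := hmemS.2 ⟨heb, heo, heC⟩
    have heq := (Finset.sum_eq_sum_iff_of_le hge).1 (by rw [hcount, hsum, h3]; norm_num) e heS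
    rw [if_neg fun hh => hecls (mem_of_mem_erase hh)] at heq
    exact (inv2_ne h hbn (hnon e heC heo) (Ne.symm heb)).2.2.2 ⟨hind b hb e heC, heq.symm⟩

theorem pts_at (h : G.IsSRGWith 77 16 0 4) (o : V) :
    ((pts G).filter (o ∈ ·)).card = 6 ∧
      ∀ b, b ∈ non G o → ((pts G).filter fun C => o ∈ C ∧ b ∈ C).card = 2 := by
  classical
  have hQ := pairs15 h o
  set Fk := ((univ : Finset (classes G o)).powersetCard 5).filter
    fun K => ∀ a ∈ K, ∀ b ∈ K, a ≠ b → clsRel G o a b with hFk
  have memF : ∀ {K}, K ∈ Fk ↔ K.card = 5 ∧ ∀ a ∈ K, ∀ b ∈ K, a ≠ b → clsRel G o a b := fun {K} => by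
    rw [hFk, mem_filter, mem_powersetCard]
    exact ⟨fun x => ⟨x.1.2, x.2⟩, fun x => ⟨⟨subset_univ _, x.1⟩, x.2⟩⟩
  let back : Finset (classes G o) → Finset V := fun K => insert o (K.biUnion fun L => L.1)
  have hsubnon : ∀ L : classes G o, L.1 ⊆ non G o := by
    intro L v hv
    obtain ⟨c, rfl⟩ := toCls_surj o L
    exact (mem_cls.1 hv).1
  have hmem : ∀ K (b : non G o), b.1 ∈ back K ↔ toCls o b ∈ K := by
    intro K b
    simp only [back, mem_insert, mem_biUnion, (mem_non.1 b.2).1, false_or]
    constructor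
    · rintro ⟨L, hL, hbL⟩
      rwa [(mem_iff_toCls h L b).1 hbL]
    · exact fun hK => ⟨_, hK, self_mem_cls h b.2⟩
  have hinj : Function.Injective back := fun K K' e => by
    ext L
    obtain ⟨b, rfl⟩ := toCls_surj o L
    rw [← hmem, ← hmem, e]
  have himage : Fk.image back = (pts G).filter (o ∈ ·) := by
    ext C
    simp only [mem_image, mem_filter]
    constructor
    · rintro ⟨K, hK, rfl⟩
      obtain ⟨hK5, hKR⟩ := memF.1 hK
      refine ⟨mem_pts.2 ⟨?_, ?_⟩, by simp [back]⟩
      · have hno : o ∉ K.biUnion fun L => L.1 := fun hh => by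
          obtain ⟨L, -, hL⟩ := mem_biUnion.1 hh
          exact (mem_non.1 (hsubnon L hL)).1 rfl
        rw [card_insert_of_notMem hno, card_biUnion]
        · rw [Finset.sum_congr rfl (g := fun _ => 4) fun L _ => by
            obtain ⟨c, rfl⟩ := toCls_surj o L
            exact card_cls h c.2, Finset.sum_const, hK5]
          rfl
        · intro L _ L' _ hne
          rw [Function.onFun, Finset.disjoint_left]
          intro v hv hv'
          exact hne (((mem_iff_toCls h L ⟨v, hsubnon L hv⟩).1 hv).symm.trans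
            ((mem_iff_toCls h L' ⟨v, hsubnon L hv⟩).1 hv'))
      · intro a ha b hb hab
        have side : ∀ v ∈ back K, v = o ∨ v ∈ non G o := fun v hv => by
          rcases mem_insert.1 hv with e | hh
          · exact Or.inl e
          · obtain ⟨L, -, hL⟩ := mem_biUnion.1 hh
            exact Or.inr (hsubnon L hL)
        rcases side a ha with rfl | ha'
        · rcases side b hb with rfl | hb'
          · exact G.irrefl hab
          · exact (mem_non.1 hb').2 hab
        · rcases side b hb with rfl | hb'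
          · exact (mem_non.1 ha').2 hab.symm
          · have haK := (hmem K ⟨a, ha'⟩).1 ha
            have hbK := (hmem K ⟨b, hb'⟩).1 hb
            have hne := hab.ne
            by_cases e : toCls o (⟨a, ha'⟩ : non G o) = toCls o ⟨b, hb'⟩
            · have := (cls_eq_iff h ha' hb').1 (congrArg Subtype.val e)
              exact ((inv2_ne h ha' hb' hne).2.1.1 this).1 hab
            · have := (clsRel_iff h ⟨a, ha'⟩ ⟨b, hb'⟩).1 (hKR _ haK _ hbK e)
              exact ((inv2_ne h ha' hb' hne).2.2.1 this).1 hab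
    · rintro ⟨hC, hoC⟩
      let K : Finset (classes G o) := univ.filter fun L => L.1 ⊆ C
      have hKmem : ∀ b : non G o, toCls o b ∈ K ↔ b.1 ∈ C := fun b => by
        simp only [K, mem_filter, mem_univ, true_and]
        exact ⟨fun hh => hh (self_mem_cls h b.2),
          fun hb => (coclique_structure h hC hoC hb (mem_non.1 b.2).1).2.1⟩
      have hback : back K = C := by
        ext v
        rcases eq_or_ne v o with rfl | hvo
        · simp [back, hoC]
        constructor
        · intro hv
          obtain ⟨L, hL, hvL⟩ := mem_biUnion.1 ((mem_insert.1 hv).resolve_left hvo)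
          exact (mem_filter.1 hL).2 hvL
        · intro hv
          have hn := (coclique_structure h hC hoC hv hvo).1
          exact (hmem K ⟨v, hn⟩).2 ((hKmem ⟨v, hn⟩).2 hv)
      refine ⟨K, memF.2 ⟨?_, ?_⟩, hback⟩
      · have hc := congrArg card hback
        rw [(mem_pts.1 hC).1, card_insert_of_notMem fun hh => by
            obtain ⟨L, -, hL⟩ := mem_biUnion.1 hh
            exact (mem_non.1 (hsubnon L hL)).1 rfl, card_biUnion] at hc
        · rw [Finset.sum_congr rfl (g := fun _ => 4) fun L _ => by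
            obtain ⟨c, rfl⟩ := toCls_surj o L
            exact card_cls h c.2, Finset.sum_const, smul_eq_mul] at hc
          omega
        · intro L _ L' _ hne
          rw [Function.onFun, Finset.disjoint_left]
          intro v hv hv'
          exact hne (((mem_iff_toCls h L ⟨v, hsubnon L hv⟩).1 hv).symm.trans
            ((mem_iff_toCls h L' ⟨v, hsubnon L hv⟩).1 hv'))
      · intro L hL L' hL' hne
        obtain ⟨a, rfl⟩ := toCls_surj o L
        obtain ⟨b, rfl⟩ := toCls_surj o L'
        rw [hKmem] at hL hL'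
        rw [clsRel_iff h]
        refine (coclique_structure h hC hoC hL (mem_non.1 a.2).1).2.2 _ hL' (mem_non.1 b.2).1 fun hh => hne ?_
        exact Subtype.ext (cls_eq h a.2 hh).symm
  refine ⟨?_, fun b hb => ?_⟩
  · rw [← himage, card_image_of_injective _ hinj]
    obtain ⟨L, hL⟩ := card_pos.1 (show 0 < (classes G o).card by rw [card_classes h]; norm_num)
    exact (hQ.counts ⟨L, hL⟩).1
  · rw [← filter_filter, ← himage, filter_image, card_image_of_injective _ hinj]
    rw [Finset.filter_congr fun K _ => (hmem K ⟨b, hb⟩)]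
    exact (hQ.counts (toCls o ⟨b, hb⟩)).2.1

theorem card_pts (h : G.IsSRGWith 77 16 0 4) : (pts G).card = 22 := by
  have e : ∑ v : V, ((pts G).filter (v ∈ ·)).card = 21 * (pts G).card := by
    simp only [card_filter]
    rw [Finset.sum_comm, Finset.card_eq_sum_ones (pts G), Finset.mul_sum]
    refine Finset.sum_congr rfl fun C hC => ?_
    rw [Finset.sum_boole, Nat.cast_id, filter_mem_eq_inter, univ_inter, (mem_pts.1 hC).1, mul_one]
  rw [Finset.sum_congr rfl fun v _ => (pts_at h v).1, Finset.sum_const, card_univ, h.card, smul_eq_mul] at e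
  omega

/-- The points through a vertex. -/
def blockOf (G : SimpleGraph V) [DecidableRel G.Adj] (v : V) : Finset (pts G) := univ.filter fun C => v ∈ C.1

theorem card_blockOf_inter (h : G.IsSRGWith 77 16 0 4) {u w : V} (hne : u ≠ w) :
    (blockOf G u ∩ blockOf G w).card = if G.Adj u w then 0 else 2 := by
  have e : (blockOf G u ∩ blockOf G w).card = ((pts G).filter fun C => u ∈ C ∧ w ∈ C).card := by
    rw [← card_map (Function.Embedding.subtype (· ∈ pts G))]
    congr 1
    ext C
    simp [blockOf, and_comm, and_assoc]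
  rw [e]
  split_ifs with ha
  · rw [card_eq_zero, filter_eq_empty_iff]
    exact fun C hC hh => (mem_pts.1 hC).2 u hh.1 w hh.2 ha
  · exact (pts_at h u).2 w (mem_non.2 ⟨hne.symm, ha⟩)

theorem exists_steiner (h : G.IsSRGWith 77 16 0 4) :
    ∃ (P : Type u) (_ : Fintype P) (_ : DecidableEq P) (B : Set (Finset P)), Fintype.card P = 22 ∧
      IsSteinerSystem 3 6 B ∧ Nonempty (blockGraph B ≃g G) := by
  classical
  have hblk : ∀ v, (blockOf G v).card = 6 := fun v => by
    rw [← (pts_at h v).1, ← card_map (Function.Embedding.subtype (· ∈ pts G))]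
    congr 1
    ext C
    simp [blockOf, and_comm]
  have hsmall : ∀ u w : V, u ≠ w → (blockOf G u ∩ blockOf G w).card ≤ 2 := fun u w hne => by
    rw [card_blockOf_inter h hne]; split_ifs <;> norm_num
  have hinj : Function.Injective (blockOf G) := fun u w e => by
    by_contra huw
    have := hsmall u w huw
    rw [e, inter_self, hblk] at this
    omega
  obtain ⟨S, hS⟩ : ∃ S : Finset (Σ _ : V, Finset (pts G)),
      S = univ.sigma fun v => (blockOf G v).powersetCard 3 := ⟨_, rfl⟩
  have hScard : S.card = 1540 := by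
    rw [hS, card_sigma, sum_congr rfl (g := fun _ => 20) fun u _ => by rw [card_powersetCard, hblk]; rfl, sum_const,
      card_univ, h.card]
    rfl
  have hP : Fintype.card (pts G) = 22 := by rw [Fintype.card_coe, card_pts h]
  have hTcard : ((univ : Finset (pts G)).powersetCard 3).card = 1540 := by
    rw [card_powersetCard, card_univ, hP]; rfl
  have himg : S.image Sigma.snd = (univ : Finset (pts G)).powersetCard 3 := by
    refine eq_of_subset_of_card_le (fun s hs => ?_) ?_
    · obtain ⟨⟨u, s'⟩, hu, rfl⟩ := mem_image.mp hs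
      rw [hS, mem_sigma, mem_powersetCard] at hu
      exact mem_powersetCard.mpr ⟨subset_univ _, hu.2.2⟩
    · rw [hTcard, card_image_of_injOn, hScard]
      rintro ⟨u, s⟩ hu ⟨w, s'⟩ hw (rfl : s = s')
      rw [hS, mem_coe, mem_sigma, mem_powersetCard] at hu hw
      by_cases huw : u = w
      · rw [huw]
      · have h1 : 3 ≤ (blockOf G u ∩ blockOf G w).card := hu.2.2 ▸ card_le_card (subset_inter hu.2.1 hw.2.1)
        have := hsmall u w huw
        omega
  have hB : IsSteinerSystem 3 6 (Set.range (blockOf G)) := by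
    refine ⟨by rintro _ ⟨u, rfl⟩; exact hblk u, fun s hs => ?_⟩
    have hm : s ∈ S.image Sigma.snd := by rw [himg]; exact mem_powersetCard.mpr ⟨subset_univ _, hs⟩
    obtain ⟨⟨u, s'⟩, hu, rfl⟩ := mem_image.mp hm
    rw [hS, mem_sigma, mem_powersetCard] at hu
    refine ⟨blockOf G u, ⟨⟨u, rfl⟩, hu.2.1⟩, ?_⟩
    rintro _ ⟨⟨w, rfl⟩, hw⟩
    by_contra hne
    have h1 : 3 ≤ (blockOf G u ∩ blockOf G w).card := hu.2.2 ▸ card_le_card (subset_inter hu.2.1 hw)
    have := hsmall u w fun e => hne (by rw [e])
    omega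
  refine ⟨pts G, inferInstance, inferInstance, Set.range (blockOf G), hP, hB,
    ⟨(⟨Equiv.ofInjective _ hinj, fun {u w} => ?_⟩ : G ≃g blockGraph (Set.range (blockOf G))).symm⟩⟩
  rw [Cfsg.Lib.Steiner.blockGraph_adj hB (by norm_num)]
  show Disjoint (blockOf G u) (blockOf G w) ↔ G.Adj u w
  rcases eq_or_ne u w with rfl | hne
  · simp only [disjoint_self, G.irrefl, iff_false]
    intro e
    have := hblk u
    rw [e] at this
    simp at this
  · rw [disjoint_iff_inter_eq_empty, ← card_eq_zero, card_blockOf_inter h hne]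
    split_ifs with ha <;> simp [ha]

theorem blockGraph_congr {α β : Type*} [DecidableEq β] {B : Set (Finset α)} {B' : Set (Finset β)}
    (f : α ≃ β) (hf : ∀ b, b.image f ∈ B' ↔ b ∈ B) : Nonempty (blockGraph B ≃g blockGraph B') := by
  classical
  let g : B ≃ B' :=
    { toFun := fun b => ⟨b.1.image f, (hf _).mpr b.2⟩
      invFun := fun b => ⟨b.1.image f.symm, (hf _).mp (by
        rw [Finset.image_image, Equiv.self_comp_symm, Finset.image_id]; exact b.2)⟩
      left_inv := fun b => Subtype.ext (by simp [Finset.image_image])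
      right_inv := fun b => Subtype.ext (by simp [Finset.image_image]) }
  refine ⟨⟨g, fun {a b} => ?_⟩⟩
  simp only [blockGraph, fromRel_adj, ne_eq, EmbeddingLike.apply_eq_iff_eq]
  simp [g, Finset.disjoint_image f.injective]

theorem unique {W : Type*} [Fintype W] [DecidableEq W] {H : SimpleGraph W} [DecidableRel H.Adj]
    (hG : G.IsSRGWith 77 16 0 4) (hH : H.IsSRGWith 77 16 0 4) : Nonempty (G ≃g H) := by
  obtain ⟨P, _, _, B, hP, hB, ⟨eG⟩⟩ := exists_steiner hG
  obtain ⟨Q, _, _, B', hQ, hB', ⟨eH⟩⟩ := exists_steiner hH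
  obtain ⟨f, hf⟩ := Cfsg.Lib.Golay.setSystemIso_3622 hP hQ hB hB'
  obtain ⟨e⟩ : Nonempty (blockGraph B ≃g blockGraph B') :=
    blockGraph_congr f fun b => by
      rw [← hf]
      exact ⟨fun ⟨c, hc, e⟩ => Finset.image_injective f.injective e ▸ hc, fun hb => ⟨b, hb, rfl⟩⟩
  exact ⟨eG.symm.trans (e.trans eH)⟩

end Cfsg.Lib.SRG77
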