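import Mathlib

/-!
Arithmetic of a strongly regular graph with parameters (77, 16, 0, 4): the matrix `2I + J - A`.
-/

set_option autoImplicit false

namespace Cfsg.Lib.SRG77

open Finset SimpleGraph

universe u

variable {V : Type u} [Fintype V] [DecidableEq V] {G : SimpleGraph V} [DecidableRel G.Adj]

/-- Adjacency as an integer. -/
def adjZ (G : SimpleGraph V) [DecidableRel G.Adj] (u v : V) : ℤ := if G.Adj u v then 1 else 0

/-- The entry of `2I + J - A`. -/
def ent (G : SimpleGraph V) [DecidableRel G.Adj] (u v : V) : ℤ := (if u = v then 2 else 0) + 1 - adjZ G u v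

/-- The product of `2I + J - A` with a vector. -/
def app (G : SimpleGraph V) [DecidableRel G.Adj] (x : V → ℤ) (u : V) : ℤ := ∑ v, ent G u v * x v

omit [Fintype V] in
theorem adjZ_comm (u v : V) : adjZ G u v = adjZ G v u := by simp [adjZ, G.adj_comm]

omit [Fintype V] in
theorem ent_comm (u v : V) : ent G u v = ent G v u := by
  rw [ent, ent, adjZ_comm u v]
  simp [eq_comm]

omit [Fintype V] in
theorem ent_self (u : V) : ent G u u = 3 := by simp [ent, adjZ]

omit [Fintype V] in
theorem ent_adj {u v : V} (h : G.Adj u v) : ent G u v = 0 := by simp [ent, adjZ, h, h.ne]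

omit [Fintype V] in
theorem ent_non {u v : V} (hne : u ≠ v) (h : ¬ G.Adj u v) : ent G u v = 1 := by simp [ent, adjZ, h, hne]

theorem card_nbhd (h : G.IsSRGWith 77 16 0 4) (u : V) : (G.neighborFinset u).card = 16 := h.regular u

theorem no_triangle (h : G.IsSRGWith 77 16 0 4) {a b c : V} (hab : G.Adj a b) (hac : G.Adj a c) :
    ¬ G.Adj b c := by
  intro hbc
  have h0 := h.of_adj a b hab
  rw [Fintype.card_eq_zero_iff] at h0
  exact h0.false ⟨c, mem_commonNeighbors (G := G) |>.mpr ⟨hac, hbc⟩⟩

theorem card_common (h : G.IsSRGWith 77 16 0 4) {a b : V} (hne : a ≠ b) (hn : ¬ G.Adj a b) :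
    (G.neighborFinset a ∩ G.neighborFinset b).card = 4 := by
  rw [← h.of_not_adj hne hn, ← Set.toFinset_card]
  congr 1
  ext x
  simp [mem_commonNeighbors]

theorem card_common_adj (h : G.IsSRGWith 77 16 0 4) {a b : V} (hab : G.Adj a b) :
    (G.neighborFinset a ∩ G.neighborFinset b).card = 0 := by
  rw [card_eq_zero, eq_empty_iff_forall_notMem]
  intro c hc
  rw [mem_inter, mem_neighborFinset, mem_neighborFinset] at hc
  exact no_triangle h hab hc.1 hc.2

theorem sum_adjZ (s : Finset V) (u : V) : ∑ v ∈ s, adjZ G u v = ((G.neighborFinset u ∩ s).card : ℤ) := by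
  simp only [adjZ]
  rw [Finset.sum_boole]
  congr 2
  ext v
  simp [and_comm]

theorem sum_adjZ_mul (u w : V) :
    ∑ v, adjZ G u v * adjZ G v w = ((G.neighborFinset u ∩ G.neighborFinset w).card : ℤ) := by
  simp only [adjZ, ite_mul, one_mul, zero_mul, ← ite_and]
  rw [Finset.sum_boole]
  congr 2
  ext v
  simp [G.adj_comm v w]

/-- The square of `M = 2I + J - A` is `8M + 45J`. -/
theorem ent_sq (h : G.IsSRGWith 77 16 0 4) (u w : V) :
    ∑ v, ent G u v * ent G v w = 8 * ent G u w + 45 := by
  have e : ∀ v, ent G u v * ent G v w = (if u = v then 2 * ent G v w else 0) + (if v = w then 2 else 0)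
      - (if v = w then 2 * adjZ G u v else 0) + 1 - adjZ G v w - adjZ G u v + adjZ G u v * adjZ G v w := by
    intro v
    simp only [ent]
    split_ifs <;> ring
  rw [Finset.sum_congr rfl fun v _ => e v]
  simp only [Finset.sum_add_distrib, Finset.sum_sub_distrib, Finset.sum_ite_eq, Finset.sum_ite_eq', Finset.mem_univ,
    if_true, sum_adjZ_mul, Finset.sum_const, Finset.card_univ, h.card, sum_adjZ, inter_univ, card_nbhd h]
  rw [Finset.sum_congr rfl fun v _ => adjZ_comm v w, sum_adjZ, inter_univ, card_nbhd h]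
  rcases eq_or_ne u w with rfl | hne
  · rw [ent_self, inter_self, card_nbhd h]
    simp [adjZ]
  · by_cases ha : G.Adj u w
    · rw [ent_adj ha, card_common_adj h ha]
      simp [adjZ, ha]
    · rw [ent_non hne ha, card_common h hne ha]
      simp [adjZ, ha]

theorem sum_ent (h : G.IsSRGWith 77 16 0 4) (u : V) : ∑ v, ent G u v = 63 := by
  simp only [ent, Finset.sum_sub_distrib, Finset.sum_add_distrib, Finset.sum_ite_eq, Finset.mem_univ, if_true,
    sum_adjZ, inter_univ, card_nbhd h, Finset.sum_const, Finset.card_univ, h.card]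
  norm_num

theorem app_app (h : G.IsSRGWith 77 16 0 4) (x : V → ℤ) (u : V) :
    app G (app G x) u = 8 * app G x u + 45 * ∑ v, x v := by
  simp only [app, Finset.mul_sum]
  rw [Finset.sum_comm, ← Finset.sum_add_distrib]
  refine Finset.sum_congr rfl fun w _ => ?_
  rw [show (∑ v, ent G u v * (ent G v w * x w)) = (∑ v, ent G u v * ent G v w) * x w by
    rw [Finset.sum_mul]; simp [mul_assoc], ent_sq h]
  ring

theorem sum_app (h : G.IsSRGWith 77 16 0 4) (x : V → ℤ) : ∑ u, app G x u = 63 * ∑ v, x v := by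
  simp only [app]
  rw [Finset.sum_comm, Finset.mul_sum]
  refine Finset.sum_congr rfl fun v _ => ?_
  rw [← Finset.sum_mul, Finset.sum_congr rfl fun u _ => ent_comm u v, sum_ent h]

theorem sum_app_sq (h : G.IsSRGWith 77 16 0 4) (x : V → ℤ) :
    ∑ u, app G x u ^ 2 = 8 * ∑ u, x u * app G x u + 45 * (∑ v, x v) ^ 2 := by
  have e : ∑ u, app G x u ^ 2 = ∑ v, x v * app G (app G x) v := by
    simp only [sq]
    conv_lhs => arg 2; ext u; rw [app, Finset.sum_mul]
    rw [Finset.sum_comm]
    refine Finset.sum_congr rfl fun v _ => ?_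
    conv_rhs => rw [app, Finset.mul_sum]
    refine Finset.sum_congr rfl fun u _ => ?_
    rw [ent_comm u v]; simp only [app]; ring
  rw [e]
  rw [Finset.sum_congr rfl fun v (_ : v ∈ univ) => show x v * app G (app G x) v
      = 8 * (x v * app G x v) + (45 * ∑ w, x w) * x v by rw [app_app h]; ring,
    Finset.sum_add_distrib, ← Finset.mul_sum, ← Finset.mul_sum]
  ring

/-- A null vector of sum zero is annihilated. -/
theorem app_eq_zero (h : G.IsSRGWith 77 16 0 4) {x : V → ℤ} (hs : ∑ v, x v = 0) (hq : ∑ u, x u * app G x u = 0)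
    (u : V) : app G x u = 0 := by
  have e := sum_app_sq h x
  rw [hs, hq] at e
  have := (Finset.sum_eq_zero_iff_of_nonneg fun v _ => sq_nonneg (app G x v)).1 (by simpa using e) u (mem_univ u)
  simpa using this

/-- The eigenvalue bound. -/
theorem quad_bound (h : G.IsSRGWith 77 16 0 4) (x : V → ℤ) :
    9 * (∑ v, x v) ^ 2 ≤ 11 * ∑ u, x u * app G x u := by
  have e0 : 0 ≤ ∑ u, (77 * app G x u - 63 * ∑ v, x v) ^ 2 := Finset.sum_nonneg fun u _ => sq_nonneg _
  have e1 : ∑ u, (77 * app G x u - 63 * ∑ v, x v) ^ 2 = 5929 * ∑ u, app G x u ^ 2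
      - 9702 * (∑ v, x v) * ∑ u, app G x u + 305613 * (∑ v, x v) ^ 2 := by
    generalize (∑ v, x v) = s
    rw [Finset.sum_congr rfl fun u (_ : u ∈ univ) => show (77 * app G x u - 63 * s) ^ 2
        = 5929 * app G x u ^ 2 - 9702 * s * app G x u + 3969 * s ^ 2 by ring,
      Finset.sum_add_distrib, Finset.sum_sub_distrib, ← Finset.mul_sum, ← Finset.mul_sum, Finset.sum_const,
      Finset.card_univ, h.card]
    simp
    ring
  rw [e1, sum_app_sq h, sum_app h] at e0
  nlinarith [e0]

theorem adjZ_sum_pairs (s : Finset V) :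
    ∑ v, (∑ a ∈ s, adjZ G a v) ^ 2
      = ∑ a ∈ s, ∑ b ∈ s, ((G.neighborFinset a ∩ G.neighborFinset b).card : ℤ) := by
  simp only [sq, Finset.sum_mul_sum, ← sum_adjZ_mul]
  rw [Finset.sum_comm]
  refine Finset.sum_congr rfl fun a _ => ?_
  rw [Finset.sum_comm]
  exact Finset.sum_congr rfl fun b _ => Finset.sum_congr rfl fun v _ => by rw [adjZ_comm b v]

theorem sum_pairs_same (h : G.IsSRGWith 77 16 0 4) {X : Finset V} (hX : ∀ a ∈ X, ∀ b ∈ X, ¬ G.Adj a b) :
    ∑ a ∈ X, ∑ b ∈ X, ((G.neighborFinset a ∩ G.neighborFinset b).card : ℤ)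
      = (X.card : ℤ) * 12 + (X.card : ℤ) ^ 2 * 4 := by
  have e : ∀ a ∈ X, ∀ b ∈ X, ((G.neighborFinset a ∩ G.neighborFinset b).card : ℤ) = (if a = b then 12 else 0) + 4 := by
    intro a ha b hb
    rcases eq_or_ne a b with rfl | hne
    · rw [inter_self, card_nbhd h]; simp
    · rw [card_common h hne (hX a ha b hb)]; simp [hne]
  rw [Finset.sum_congr rfl fun a ha => Finset.sum_congr rfl fun b hb => e a ha b hb]
  simp only [Finset.sum_add_distrib, Finset.sum_ite_eq, Finset.sum_const, nsmul_eq_mul]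
  rw [Finset.sum_ite_mem, inter_self, Finset.sum_const, nsmul_eq_mul]
  ring

/-- No induced `K_{3,3}`: three non-adjacent vertices have at most two common neighbours. -/
theorem no_k33 (h : G.IsSRGWith 77 16 0 4) {X Y : Finset V} (hX : X.card = 3) (hY : Y.card = 3)
    (hXY : ∀ a ∈ X, ∀ b ∈ Y, G.Adj a b) : False := by
  classical
  have hXind : ∀ a ∈ X, ∀ b ∈ X, ¬ G.Adj a b := fun a ha b hb hab => by
    obtain ⟨y, hy⟩ := card_pos.1 (by omega : 0 < Y.card)
    exact no_triangle h hab (hXY a ha y hy) (hXY b hb y hy)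
  have hYind : ∀ a ∈ Y, ∀ b ∈ Y, ¬ G.Adj a b := fun a ha b hb hab => by
    obtain ⟨y, hy⟩ := card_pos.1 (by omega : 0 < X.card)
    exact no_triangle h hab (hXY y hy a ha).symm (hXY y hy b hb).symm
  have hdis : Disjoint X Y := Finset.disjoint_left.2 fun a ha hb => G.irrefl (hXY a ha a hb)
  set S := X ∪ Y with hS
  have hS6 : S.card = 6 := by rw [hS, card_union_of_disjoint hdis, hX, hY]
  let k : V → ℤ := fun v => ∑ a ∈ S, adjZ G a v
  have hin : ∀ v ∈ S, k v = 3 := by
    intro v hv
    simp only [k, hS, Finset.sum_union hdis]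
    rcases mem_union.1 hv with hvX | hvY
    · rw [Finset.sum_eq_zero (s := X) fun a ha => by simp [adjZ, hXind a ha v hvX],
        Finset.sum_congr rfl (g := fun _ => (1 : ℤ)) fun a ha => by simp [adjZ, (hXY v hvX a ha).symm]]
      simp [hY]
    · rw [Finset.sum_eq_zero (s := Y) fun a ha => by simp [adjZ, hYind a ha v hvY],
        Finset.sum_congr rfl (g := fun _ => (1 : ℤ)) fun a ha => by simp [adjZ, hXY a ha v hvY]]
      simp [hX]
  have hout : ∀ v ∉ S, 3 * k v - k v ^ 2 ≤ 2 := by
    intro v hv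
    by_contra hc
    have hk0 : 0 ≤ k v := Finset.sum_nonneg fun a _ => by simp only [adjZ]; split <;> norm_num
    rcases (show k v ≤ 2 ∨ 3 ≤ k v by omega) with hk | hk
    · interval_cases (k v) <;> simp at hc
    -- the bound on `1_S + δ_v`
    let x : V → ℤ := fun u => (if u ∈ S then 1 else 0) + (if u = v then 1 else 0)
    have hsum : ∑ u, x u = 7 := by
      simp only [x, Finset.sum_add_distrib, Finset.sum_ite_eq', mem_univ, if_true, Finset.sum_boole]
      simp [Finset.filter_mem_eq_inter, hS6]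
    have happ : ∀ u, app G x u = (∑ a ∈ S, ent G u a) + ent G u v := by
      intro u
      simp only [app, x, mul_add, mul_ite, mul_one, mul_zero, Finset.sum_add_distrib, Finset.sum_ite_eq', mem_univ,
        if_true, Finset.sum_ite_mem, univ_inter]
    have hSa : ∀ u, ∑ a ∈ S, ent G u a = (if u ∈ S then 2 else 0) + 6 - k u := by
      intro u
      simp only [ent, Finset.sum_sub_distrib, Finset.sum_add_distrib, Finset.sum_ite_eq, Finset.sum_const, hS6, k]
      rw [Finset.sum_congr rfl fun a _ => adjZ_comm u a]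
      norm_num
    have hq : ∑ u, x u * app G x u = 45 - 2 * k v := by
      simp only [x, add_mul, ite_mul, one_mul, zero_mul, Finset.sum_add_distrib, Finset.sum_ite_eq', mem_univ,
        if_true, Finset.sum_ite_mem, univ_inter, happ]
      rw [Finset.sum_congr rfl (s₂ := S) (g := fun _ => (5 : ℤ)) fun a ha => by rw [hSa, hin a ha, if_pos ha]; norm_num,
        Finset.sum_const, hS6, Finset.sum_congr rfl fun a _ => ent_comm a v, hSa v, if_neg hv, ent_self]
      norm_num
      ring
    have := quad_bound h x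
    rw [hsum, hq] at this
    omega
  have h1 : ∑ v, k v = 96 := by
    simp only [k]
    rw [Finset.sum_comm]
    simp [sum_adjZ, card_nbhd h, hS6]
  have h2 : ∑ v, k v ^ 2 = 144 := by
    simp only [k, adjZ_sum_pairs]
    have h0 : ∀ a ∈ X, ∀ b ∈ Y, ((G.neighborFinset a ∩ G.neighborFinset b).card : ℤ) = 0 := fun a ha b hb => by
      rw [card_common_adj h (hXY a ha b hb)]; rfl
    simp only [hS, Finset.sum_union hdis, Finset.sum_add_distrib]
    rw [sum_pairs_same h hXind, sum_pairs_same h hYind, hX, hY, Finset.sum_eq_zero (s := X) fun a ha =>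
      Finset.sum_eq_zero fun b hb => h0 a ha b hb, Finset.sum_eq_zero (s := Y) fun b hb =>
      Finset.sum_eq_zero fun a ha => by rw [inter_comm]; exact h0 a ha b hb]
    norm_num
  have hle : ∀ v, 3 * k v - k v ^ 2 ≤ if v ∈ S then 0 else 2 := fun v => by
    split
    · rename_i hv; rw [hin v hv]; norm_num
    · rename_i hv; exact hout v hv
  have htot := Finset.sum_le_sum fun v (_ : v ∈ (univ : Finset V)) => hle v
  have hc : ((univ : Finset V).filter (· ∉ S)).card = 71 := by
    rw [show (univ : Finset V).filter (· ∉ S) = Sᶜ by ext; simp, card_compl, h.card, hS6]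
  rw [Finset.sum_sub_distrib, ← Finset.mul_sum, h1, h2, Finset.sum_ite, Finset.sum_const_zero, Finset.sum_const,
    hc] at htot
  norm_num at htot

end Cfsg.Lib.SRG77
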