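import Mathlib

/-!
A symmetric relation on fifteen points with eight related to each and four common to each two: every related pair lies
in exactly one set of five pairwise related points.
-/

set_option autoImplicit false

namespace Cfsg.Lib.SRG77

open Finset

variable {Q : Type*} [Fintype Q] [DecidableEq Q]

/-- Fifteen points, a relation of valency eight with four points related to any two. -/
structure Pairs15 (R : Q → Q → Prop) [DecidableRel R] : Prop where
  card : Fintype.card Q = 15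
  symm : ∀ a b, R a b → R b a
  irrefl : ∀ a, ¬ R a a
  deg : ∀ a, (univ.filter (R a)).card = 8
  common : ∀ a b, a ≠ b → (univ.filter fun c => R a c ∧ R b c).card = 4

variable {R : Q → Q → Prop} [DecidableRel R]

/-- Distinct and unrelated. -/
def Opp (R : Q → Q → Prop) (a b : Q) : Prop := a ≠ b ∧ ¬ R a b

instance : DecidableRel (Opp R) := fun a b => inferInstanceAs (Decidable (_ ∧ _))

/-- The points opposite to `a`. -/
def opp (R : Q → Q → Prop) [DecidableRel R] (a : Q) : Finset Q := univ.filter (Opp R a)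

theorem mem_opp {a b : Q} : b ∈ opp R a ↔ Opp R a b := by simp [opp]

theorem Pairs15.opp_comm (h : Pairs15 R) {a b : Q} : Opp R a b ↔ Opp R b a :=
  ⟨fun x => ⟨x.1.symm, fun y => x.2 (h.symm _ _ y)⟩, fun x => ⟨x.1.symm, fun y => x.2 (h.symm _ _ y)⟩⟩

theorem Pairs15.card_opp (h : Pairs15 R) (a : Q) : (opp R a).card = 6 := by
  have e : opp R a = (insert a (univ.filter (R a)))ᶜ := by
    ext b; simp [opp, Opp, eq_comm]
  rw [e, card_compl, h.card, card_insert_of_notMem (by simp [h.irrefl]), h.deg]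

theorem Pairs15.card_opp_inter (h : Pairs15 R) {a b : Q} (hab : a ≠ b) :
    (opp R a ∩ opp R b).card = if R a b then 3 else 1 := by
  have e : opp R a ∩ opp R b = ({a, b} ∪ (univ.filter (R a) ∪ univ.filter (R b)))ᶜ := by
    ext c; simp [opp, Opp, eq_comm]; tauto
  have hi : univ.filter (R a) ∩ univ.filter (R b) = univ.filter fun c => R a c ∧ R b c := by
    ext c; simp
  have hu := card_union_add_card_inter (univ.filter (R a)) (univ.filter (R b))
  rw [hi, h.common a b hab, h.deg, h.deg] at hu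
  rw [e, card_compl, h.card]
  split_ifs with hr
  · have : ({a, b} : Finset Q) ∪ (univ.filter (R a) ∪ univ.filter (R b)) = univ.filter (R a) ∪ univ.filter (R b) := by
      refine union_eq_right.2 fun c hc => ?_
      simp only [mem_insert, mem_singleton] at hc
      rcases hc with rfl | rfl <;> simp [hr, h.symm _ _ hr]
    rw [this]; omega
  · have hd : Disjoint ({a, b} : Finset Q) (univ.filter (R a) ∪ univ.filter (R b)) := by
      have hr' : ¬ R b a := fun x => hr (h.symm b a x)
      simp [Finset.disjoint_left, hr, hr', h.irrefl]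
    rw [card_union_of_disjoint hd, card_pair hab]; omega

theorem Pairs15.line (h : Pairs15 R) {a b c : Q} (hab : Opp R a b) (hac : Opp R a c) (hbc : Opp R b c) {x : Q}
    (hxa : x ≠ a) (hxb : x ≠ b) (hxc : x ≠ c) :
    (if Opp R a x then 1 else 0) + (if Opp R b x then 1 else 0) + (if Opp R c x then 1 else 0) = (1 : ℕ) := by
  -- the six points opposite to each, apart from the line
  have key : ∀ p q r : Q, Opp R p q → Opp R p r → Opp R q r → ∀ y ∈ opp R p \ {q, r}, y ∉ opp R q := by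
    intro p q r hpq hpr hqr y hy hyq
    rw [mem_sdiff, mem_insert, mem_singleton, not_or] at hy
    have hc := h.card_opp_inter hpq.1
    rw [if_neg hpq.2, card_eq_one] at hc
    obtain ⟨z, hz⟩ := hc
    have h1 : y ∈ opp R p ∩ opp R q := mem_inter.2 ⟨hy.1, hyq⟩
    have h2 : r ∈ opp R p ∩ opp R q := mem_inter.2 ⟨mem_opp.2 hpr, mem_opp.2 hqr⟩
    rw [hz, mem_singleton] at h1 h2
    exact hy.2.2 (h1.trans h2.symm)
  have hba := h.opp_comm.1 hab
  have hca := h.opp_comm.1 hac
  have hcb := h.opp_comm.1 hbc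
  set A := opp R a \ {b, c}
  set B := opp R b \ {a, c}
  set C := opp R c \ {a, b}
  have cA : A.card = 4 := by
    rw [card_sdiff_of_subset (by simp [Finset.insert_subset_iff, mem_opp, hab, hac]), h.card_opp, card_pair hbc.1]
  have cB : B.card = 4 := by
    rw [card_sdiff_of_subset (by simp [Finset.insert_subset_iff, mem_opp, hba, hbc]), h.card_opp, card_pair hac.1]
  have cC : C.card = 4 := by
    rw [card_sdiff_of_subset (by simp [Finset.insert_subset_iff, mem_opp, hca, hcb]), h.card_opp, card_pair hab.1]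
  have dAB : Disjoint A B := Finset.disjoint_left.2 fun y hy hy' => key a b c hab hac hbc y hy (mem_sdiff.1 hy').1
  have dAC : Disjoint A C := Finset.disjoint_left.2 fun y hy hy' =>
    key a c b hac hab hcb y (by rwa [show ({c, b} : Finset Q) = {b, c} from pair_comm _ _]) (mem_sdiff.1 hy').1
  have dBC : Disjoint B C := Finset.disjoint_left.2 fun y hy hy' =>
    key b c a hbc hba hca y (by rwa [show ({c, a} : Finset Q) = {a, c} from pair_comm _ _]) (mem_sdiff.1 hy').1
  have hcov : (A ∪ B) ∪ C = ({a, b, c} : Finset Q)ᶜ := by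
    refine eq_of_subset_of_card_le ?_ ?_
    · intro y hy
      simp only [A, B, C, mem_union, mem_sdiff, mem_opp, mem_insert, mem_singleton, not_or] at hy
      simp only [mem_compl, mem_insert, mem_singleton, not_or]
      rcases hy with (⟨h1, h2, h3⟩ | ⟨h1, h2, h3⟩) | ⟨h1, h2, h3⟩
      · exact ⟨h1.1.symm, h2, h3⟩
      · exact ⟨h2, h1.1.symm, h3⟩
      · exact ⟨h2, h3, h1.1.symm⟩
    · rw [card_compl, h.card, card_union_of_disjoint (disjoint_union_left.2 ⟨dAC, dBC⟩),
        card_union_of_disjoint dAB, cA, cB, cC, card_eq_three.2 ⟨a, b, c, hab.1, hac.1, hbc.1, rfl⟩]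
  have hx : x ∈ (A ∪ B) ∪ C := by rw [hcov]; simp [hxa, hxb, hxc]
  have iA : Opp R a x ↔ x ∈ A := by simp [A, mem_opp, hxb, hxc]
  have iB : Opp R b x ↔ x ∈ B := by simp [B, mem_opp, hxa, hxc]
  have iC : Opp R c x ↔ x ∈ C := by simp [C, mem_opp, hxa, hxb]
  rw [mem_union, mem_union] at hx
  simp only [iA, iB, iC]
  rcases hx with (hx | hx) | hx
  · simp [hx, Finset.disjoint_left.1 dAB hx, Finset.disjoint_left.1 dAC hx]
  · simp [hx, Finset.disjoint_right.1 dAB hx, Finset.disjoint_left.1 dBC hx]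
  · simp [hx, Finset.disjoint_right.1 dAC hx, Finset.disjoint_right.1 dBC hx]

/-- The clique through a related pair. -/
theorem Pairs15.exists_unique_five (h : Pairs15 R) {P y : Q} (hPy : R P y) :
    ∃ K : Finset Q, P ∈ K ∧ y ∈ K ∧ K.card = 5 ∧ (∀ a ∈ K, ∀ b ∈ K, a ≠ b → R a b) ∧
      ∀ K' : Finset Q, P ∈ K' → y ∈ K' → K'.card = 5 → (∀ a ∈ K', ∀ b ∈ K', a ≠ b → R a b) → K' = K := by
  classical
  have hne : P ≠ y := fun e => h.irrefl P (by rw [← e] at hPy; exact hPy)
  set U := opp R P ∩ opp R y with hU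
  set W := univ.filter fun c => R P c ∧ R y c with hW
  have hU3 : U.card = 3 := by rw [hU, h.card_opp_inter hne, if_pos hPy]
  have hW4 : W.card = 4 := h.common P y hne
  have memU : ∀ {u}, u ∈ U ↔ Opp R P u ∧ Opp R y u := fun {u} => by simp [hU, mem_opp]
  have memW : ∀ {x}, x ∈ W ↔ R P x ∧ R y x := fun {x} => by simp [hW]
  -- two opposite points have one opposite in common
  have uniq : ∀ {a b p q : Q}, Opp R a b → Opp R a p → Opp R b p → Opp R a q → Opp R b q → p = q := by
    intro a b p q hab h1 h2 h3 h4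
    have hc := h.card_opp_inter hab.1
    rw [if_neg hab.2, card_eq_one] at hc
    obtain ⟨z, hz⟩ := hc
    have e1 : p ∈ opp R a ∩ opp R b := mem_inter.2 ⟨mem_opp.2 h1, mem_opp.2 h2⟩
    have e2 : q ∈ opp R a ∩ opp R b := mem_inter.2 ⟨mem_opp.2 h3, mem_opp.2 h4⟩
    rw [hz, mem_singleton] at e1 e2
    exact e1.trans e2.symm
  have third : ∀ {a b : Q}, Opp R a b → ∃ c, Opp R a c ∧ Opp R b c := by
    intro a b hab
    have hc := h.card_opp_inter hab.1
    rw [if_neg hab.2, card_eq_one] at hc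
    obtain ⟨z, hz⟩ := hc
    have e : z ∈ opp R a ∩ opp R b := by rw [hz]; exact mem_singleton_self z
    exact ⟨z, mem_opp.1 (mem_inter.1 e).1, mem_opp.1 (mem_inter.1 e).2⟩
  have hUind : ∀ u ∈ U, ∀ u' ∈ U, ¬ Opp R u u' := fun u hu u' hu' huu =>
    hne (uniq huu (h.opp_comm.1 (memU.1 hu).1) (h.opp_comm.1 (memU.1 hu').1) (h.opp_comm.1 (memU.1 hu).2)
      (h.opp_comm.1 (memU.1 hu').2))
  -- a point of `W` not opposite to `u` is opposite to both other thirds
  have miss : ∀ x ∈ W, ∀ u ∈ U, ¬ Opp R u x → ∀ {v}, (Opp R P v ∧ Opp R u v) ∨ (Opp R y v ∧ Opp R u v) →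
      Opp R v x := by
    intro x hx u hu hux v hv
    obtain ⟨hxP, hxy⟩ := memW.1 hx
    have hxu : x ≠ u := fun e => (memU.1 hu).1.2 (by rw [← e]; exact hxP)
    rcases hv with ⟨h1, h2⟩ | ⟨h1, h2⟩
    · have hl := h.line (memU.1 hu).1 h1 h2 (x := x) (fun e => h.irrefl P (by rw [e] at hxP; exact hxP)) hxu
        (fun e => h1.2 (by rw [← e]; exact hxP))
      by_contra hvx
      simp [hux, hvx] at hl
      exact hl.2 hxP
    · have hl := h.line (memU.1 hu).2 h1 h2 (x := x) (fun e => h.irrefl y (by rw [e] at hxy; exact hxy)) hxu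
        (fun e => h1.2 (by rw [← e]; exact hxy))
      by_contra hvx
      simp [hux, hvx] at hl
      exact hl.2 hxy
  let Ux := fun x => U ∩ opp R x
  let Wx := fun x => W ∩ opp R x
  have hk : ∀ x ∈ W, (Wx x).card = (Ux x).card := by
    intro x hx
    obtain ⟨hxP, hxy⟩ := memW.1 hx
    have hxPne : x ≠ P := fun e => h.irrefl P (by rw [e] at hxP; exact hxP)
    have hxyne : x ≠ y := fun e => h.irrefl y (by rw [e] at hxy; exact hxy)
    have h1 := h.card_opp_inter hxPne
    have h2 := h.card_opp_inter hxyne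
    rw [if_pos (h.symm _ _ hxP)] at h1
    rw [if_pos (h.symm _ _ hxy)] at h2
    have hu := card_union_add_card_inter (opp R x ∩ opp R P) (opp R x ∩ opp R y)
    rw [h1, h2] at hu
    have e1 : (opp R x ∩ opp R P) ∩ (opp R x ∩ opp R y) = Ux x := by
      ext z; simp only [Ux, hU, mem_inter]; tauto
    have e2 : opp R x = ((opp R x ∩ opp R P) ∪ (opp R x ∩ opp R y)) ∪ Wx x := by
      ext z
      simp only [Wx, mem_union, mem_inter, memW, mem_opp]
      refine ⟨fun hz => ?_, fun hz => by tauto⟩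
      have hzP : z ≠ P := fun e => hz.2 (by rw [e]; exact h.symm _ _ hxP)
      have hzy : z ≠ y := fun e => hz.2 (by rw [e]; exact h.symm _ _ hxy)
      by_cases hp : R P z
      · by_cases hy : R y z
        · exact Or.inr ⟨⟨hp, hy⟩, hz⟩
        · exact Or.inl (Or.inr ⟨hz, hzy.symm, hy⟩)
      · exact Or.inl (Or.inl ⟨hz, hzP.symm, hp⟩)
    have e3 : Disjoint ((opp R x ∩ opp R P) ∪ (opp R x ∩ opp R y)) (Wx x) := by
      rw [Finset.disjoint_left]
      intro z hz hz'
      simp only [Wx, mem_inter, memW] at hz'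
      simp only [mem_union, mem_inter, mem_opp] at hz
      rcases hz with hz | hz
      · exact hz.2.2 hz'.1.1
      · exact hz.2.2 hz'.1.2
    have h6 := h.card_opp x
    rw [e2, card_union_of_disjoint e3] at h6
    rw [e1] at hu
    omega
  have hUW : ∀ u ∈ U, (W ∩ opp R u).card = 2 := by
    intro u hu
    obtain ⟨huP, huy⟩ := memU.1 hu
    obtain ⟨v, hv1, hv2⟩ := third huP
    obtain ⟨v', hv1', hv2'⟩ := third huy
    have hvU : ¬ Opp R y v := fun o => hUind u hu v (memU.2 ⟨hv1, o⟩) hv2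
    have hvU' : ¬ Opp R P v' := fun o => hUind u hu v' (memU.2 ⟨o, hv1'⟩) hv2'
    have e : opp R u = ({P, y, v, v'} : Finset Q) ∪ (W ∩ opp R u) := by
      ext z
      simp only [mem_union, mem_inter, mem_insert, mem_singleton, mem_opp, memW]
      refine ⟨fun hz => ?_, fun hz => ?_⟩
      · by_cases hzP : z = P
        · exact Or.inl (Or.inl hzP)
        by_cases hzy : z = y
        · exact Or.inl (Or.inr (Or.inl hzy))
        by_cases hp : R P z
        · by_cases hy : R y z
          · exact Or.inr ⟨⟨hp, hy⟩, hz⟩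
          · exact Or.inl (Or.inr (Or.inr (Or.inr (uniq huy ⟨Ne.symm hzy, hy⟩ hz hv1' hv2'))))
        · exact Or.inl (Or.inr (Or.inr (Or.inl (uniq huP ⟨Ne.symm hzP, hp⟩ hz hv1 hv2))))
      · rcases hz with (rfl | rfl | rfl | rfl) | hz
        · exact h.opp_comm.1 huP
        · exact h.opp_comm.1 huy
        · exact hv2
        · exact hv2'
        · exact hz.2
    have hd : Disjoint ({P, y, v, v'} : Finset Q) (W ∩ opp R u) := by
      rw [Finset.disjoint_left]
      intro z hz hz'
      simp only [mem_inter, memW] at hz'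
      simp only [mem_insert, mem_singleton] at hz
      rcases hz with rfl | rfl | rfl | rfl
      · exact h.irrefl _ hz'.1.1
      · exact h.irrefl _ hz'.1.2
      · exact hv1.2 hz'.1.1
      · exact hv1'.2 hz'.1.2
    have h4 : ({P, y, v, v'} : Finset Q).card = 4 := by
      have a1 : P ≠ v := hv1.1
      have a2 : y ≠ v' := hv1'.1
      have a3 : y ≠ v := fun e' => hv1.2 (e' ▸ hPy)
      have a4 : P ≠ v' := fun e' => hv1'.2 (e' ▸ h.symm _ _ hPy)
      have a5 : v ≠ v' := fun e' => hvU (e' ▸ hv1')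
      simp [hne, a1, a2, a3, a4, a5]
    have := h.card_opp u
    rw [e, card_union_of_disjoint hd, h4] at this
    omega
  have memUx : ∀ {x u}, u ∈ Ux x ↔ u ∈ U ∧ Opp R x u := fun {x u} => by simp [Ux, mem_opp]
  have memWx : ∀ {x z}, z ∈ Wx x ↔ z ∈ W ∧ Opp R x z := fun {x z} => by simp [Wx, mem_opp]
  -- each point of `U` opposite to `x` gives a point of `W` opposite to both
  have partner : ∀ x ∈ W, ∀ u ∈ Ux x, ∃ z ∈ Wx x, Opp R u z := by
    intro x hx u hu
    obtain ⟨huU, hxu⟩ := memUx.1 hu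
    obtain ⟨c, hc1, hc2⟩ := third hxu
    obtain ⟨hxP, hxy⟩ := memW.1 hx
    obtain ⟨huP, huy⟩ := memU.1 huU
    refine ⟨c, memWx.2 ⟨memW.2 ⟨?_, ?_⟩, hc1⟩, hc2⟩
    · by_contra hp
      have hcP : c ≠ P := fun e => hc1.2 (by rw [e]; exact h.symm _ _ hxP)
      have hl := h.line huP ⟨hcP.symm, hp⟩ hc2 (x := x) (fun e => h.irrefl P (by rw [e] at hxP; exact hxP)) hxu.1 hc1.1
      simp [h.opp_comm.1 hxu, h.opp_comm.1 hc1, fun o : Opp R P x => o.2 hxP] at hl
    · by_contra hp
      have hcy : c ≠ y := fun e => hc1.2 (by rw [e]; exact h.symm _ _ hxy)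
      have hl := h.line huy ⟨hcy.symm, hp⟩ hc2 (x := x) (fun e => h.irrefl y (by rw [e] at hxy; exact hxy)) hxu.1 hc1.1
      simp [h.opp_comm.1 hxu, h.opp_comm.1 hc1, fun o : Opp R y x => o.2 hxy] at hl
  have union : ∀ x ∈ W, ∀ z ∈ Wx x, ∀ u ∈ U, Opp R x u ∨ Opp R z u := by
    intro x hx z hz u hu
    by_contra hn
    push_neg at hn
    obtain ⟨hzW, hxz⟩ := memWx.1 hz
    obtain ⟨v, hv1, hv2⟩ := third (memU.1 hu).1
    obtain ⟨v', hv1', hv2'⟩ := third (memU.1 hu).2
    have f1 : ∀ {w}, (Opp R P w ∧ Opp R u w) ∨ (Opp R y w ∧ Opp R u w) → Opp R w x :=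
      fun {w} hw => miss x hx u hu (fun o => hn.1 (h.opp_comm.1 o)) hw
    have f2 : ∀ {w}, (Opp R P w ∧ Opp R u w) ∨ (Opp R y w ∧ Opp R u w) → Opp R w z :=
      fun {w} hw => miss z hzW u hu (fun o => hn.2 (h.opp_comm.1 o)) hw
    have e := uniq hxz (h.opp_comm.1 (f1 (Or.inl ⟨hv1, hv2⟩))) (h.opp_comm.1 (f2 (Or.inl ⟨hv1, hv2⟩)))
      (h.opp_comm.1 (f1 (Or.inr ⟨hv1', hv2'⟩))) (h.opp_comm.1 (f2 (Or.inr ⟨hv1', hv2'⟩)))
    exact hUind u hu v (memU.2 ⟨hv1, e ▸ hv1'⟩) hv2
  have share_le : ∀ x, ∀ z ∈ Wx x, ∀ u ∈ U, ∀ u' ∈ U, Opp R x u → Opp R z u → Opp R x u' → Opp R z u' → u = u' :=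
    fun x z hz u _ u' _ a b c d => uniq (memWx.1 hz).2 a b c d
  have hle3 : ∀ x, (Ux x).card ≤ 3 := fun x => hU3 ▸ card_le_card inter_subset_left
  -- no point with exactly two
  have no2 : ∀ x ∈ W, (Ux x).card ≠ 2 := by
    intro x hx hk2
    obtain ⟨a, b, hab, hUab⟩ := card_eq_two.1 hk2
    obtain ⟨c, hcU, hc⟩ := exists_mem_notMem_of_card_lt_card (show (Ux x).card < U.card by omega)
    have ha := memUx.1 (show a ∈ Ux x by rw [hUab]; simp)
    have hb := memUx.1 (show b ∈ Ux x by rw [hUab]; simp)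
    have hxc : ¬ Opp R x c := fun o => hc (memUx.2 ⟨hcU, o⟩)
    obtain ⟨za, hza, hza'⟩ := partner x hx a (memUx.2 ha)
    obtain ⟨zb, hzb, hzb'⟩ := partner x hx b (memUx.2 hb)
    have hzz : za ≠ zb := fun e => hab (share_le x za hza a ha.1 b hb.1 ha.2 (h.opp_comm.1 hza') hb.2
      (h.opp_comm.1 (e ▸ hzb')))
    have hca := (union x hx za hza c hcU).resolve_left hxc
    have hcb := (union x hx zb hzb c hcU).resolve_left hxc
    -- the third on the line through `za` and `c` is `zb`
    obtain ⟨w, hw, hw'⟩ := partner za (memWx.1 hza).1 c (memUx.2 ⟨hcU, hca⟩)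
    have h2 := hUW c hcU
    have hsub : ({za, zb} : Finset Q) ⊆ W ∩ opp R c := by
      simp [Finset.insert_subset_iff, mem_opp, (memWx.1 hza).1, (memWx.1 hzb).1, h.opp_comm.1 hca, h.opp_comm.1 hcb]
    have he := eq_of_subset_of_card_le hsub (by rw [h2, card_pair hzz])
    have hwmem : w ∈ ({za, zb} : Finset Q) := by
      rw [he]; exact mem_inter.2 ⟨(memWx.1 hw).1, mem_opp.2 hw'⟩
    simp only [mem_insert, mem_singleton] at hwmem
    rcases hwmem with rfl | rfl
    · exact (memWx.1 hw).2.1 rfl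
    · exact (memU.1 hcU).1.2 (by
        rw [← uniq (memWx.1 hza).2 ha.2 (h.opp_comm.1 hza') (memWx.1 hzb).2 (memWx.1 hw).2] at hzb
        exact absurd (memWx.1 hzb).1 (fun hh => (memU.1 ha.1).1.2 (memW.1 hh).1))
  -- two with three are not both present
  have one3 : ∀ x ∈ W, ∀ z ∈ W, x ≠ z → (Ux x).card = 3 → (Ux z).card ≠ 3 := by
    intro x hx z hz hxz h3 h3'
    have hWx : Wx x = W.erase x := eq_of_subset_of_card_le
      (fun w hw => mem_erase.2 ⟨(memWx.1 hw).2.1.symm, (memWx.1 hw).1⟩)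
      (by rw [hk x hx, h3, card_erase_of_mem hx, hW4])
    have hzx : z ∈ Wx x := by rw [hWx]; exact mem_erase.2 ⟨hxz.symm, hz⟩
    have e1 : Ux x = U := eq_of_subset_of_card_le inter_subset_left (by omega)
    have e2 : Ux z = U := eq_of_subset_of_card_le inter_subset_left (by omega)
    obtain ⟨u, u', w, huu, -, -, hUe⟩ := card_eq_three.1 hU3
    have hu : u ∈ U := by simp [hUe]
    have hu' : u' ∈ U := by simp [hUe]
    exact huu (share_le x z hzx u hu u' hu' (memUx.1 (e1.symm ▸ hu)).2 (memUx.1 (e2.symm ▸ hu)).2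
      (memUx.1 (e1.symm ▸ hu')).2 (memUx.1 (e2.symm ▸ hu')).2)
  have hsum : ∑ x ∈ W, (Ux x).card = 6 := by
    have e : ∀ x, (Ux x).card = ∑ u ∈ U, if Opp R x u then 1 else 0 := fun x => by
      rw [Finset.sum_boole, Nat.cast_id]
      congr 1
      ext u
      simp [Ux, mem_opp]
    rw [Finset.sum_congr rfl fun x _ => e x, Finset.sum_comm, Finset.sum_congr rfl fun u hu => show _ = 2 by
      rw [Finset.sum_boole, Nat.cast_id, ← hUW u hu]
      congr 1
      ext x
      simp [mem_opp, h.opp_comm (a := u)]]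
    simp [hU3]
  obtain ⟨m, hm, hm3⟩ : ∃ m ∈ W, (Ux m).card = 3 := by
    by_contra! hh
    have : ∑ x ∈ W, (Ux x).card ≤ ∑ _x ∈ W, 1 := Finset.sum_le_sum fun x hx => by
      have := hh x hx; have := hle3 x; have := no2 x hx; omega
    rw [hsum, Finset.sum_const, hW4] at this
    norm_num at this
  have hrest : ∀ x ∈ W.erase m, (Ux x).card = 1 := by
    have hle1 : ∀ x ∈ W.erase m, (Ux x).card ≤ 1 := fun x hx => by
      obtain ⟨hxm, hxW⟩ := mem_erase.1 hx
      have := one3 m hm x hxW (Ne.symm hxm) hm3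
      have := no2 x hxW; have := hle3 x; omega
    have hs := Finset.sum_erase_add W (fun x => (Ux x).card) hm
    rw [hsum, hm3] at hs
    intro x hx
    by_contra hne1
    have hlt : ∑ z ∈ W.erase m, (Ux z).card < ∑ _z ∈ W.erase m, 1 :=
      Finset.sum_lt_sum hle1 ⟨x, hx, by have := hle1 x hx; omega⟩
    rw [Finset.sum_const, card_erase_of_mem hm, hW4, smul_eq_mul] at hlt
    omega
  have hWm : Wx m = W.erase m := eq_of_subset_of_card_le
    (fun w hw => mem_erase.2 ⟨(memWx.1 hw).2.1.symm, (memWx.1 hw).1⟩)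
    (by rw [hk m hm, hm3, card_erase_of_mem hm, hW4])
  have hind : ∀ x ∈ W.erase m, ∀ z ∈ W.erase m, x ≠ z → R x z := by
    intro x hx z hz hxz
    by_contra hR
    obtain ⟨hxm, hxW⟩ := mem_erase.1 hx
    obtain ⟨hzm, hzW⟩ := mem_erase.1 hz
    have h1 : m ∈ Wx x := memWx.2 ⟨hm, h.opp_comm.1 (memWx.1 (hWm.symm ▸ hx)).2⟩
    have h2 : z ∈ Wx x := memWx.2 ⟨hzW, hxz, hR⟩
    have := card_le_card (show ({m, z} : Finset Q) ⊆ Wx x by simp [Finset.insert_subset_iff, h1, h2])
    rw [card_pair (Ne.symm hzm), hk x hxW, hrest x hx] at this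
    omega
  set K := insert P (insert y (W.erase m)) with hKdef
  have hPW : P ∉ W := fun e => h.irrefl P (memW.1 e).1
  have hyW : y ∉ W := fun e => h.irrefl y (memW.1 e).2
  have hKcard : K.card = 5 := by
    rw [hKdef, card_insert_of_notMem (by simp [hne, hPW]), card_insert_of_notMem (by simp [hyW]),
      card_erase_of_mem hm, hW4]
  refine ⟨K, by simp [K], by simp [K], hKcard, ?_, fun K' hP hy hK' hc => ?_⟩
  · intro a ha b hb hab
    simp only [K, mem_insert] at ha hb
    rcases ha with rfl | rfl | ha <;> rcases hb with rfl | rfl | hb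
    · exact absurd rfl hab
    · exact hPy
    · exact (memW.1 (mem_of_mem_erase hb)).1
    · exact h.symm _ _ hPy
    · exact absurd rfl hab
    · exact (memW.1 (mem_of_mem_erase hb)).2
    · exact h.symm _ _ (memW.1 (mem_of_mem_erase ha)).1
    · exact h.symm _ _ (memW.1 (mem_of_mem_erase ha)).2
    · exact hind a ha b hb hab
  · have hsub : (K'.erase P).erase y ⊆ W := fun z hz => by
      simp only [mem_erase] at hz
      exact memW.2 ⟨hc P hP z hz.2.2 (Ne.symm hz.2.1), hc y hy z hz.2.2 (Ne.symm hz.1)⟩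
    have hc3 : ((K'.erase P).erase y).card = 3 := by
      rw [card_erase_of_mem (mem_erase.2 ⟨hne.symm, hy⟩), card_erase_of_mem hP, hK']
    have hmK : m ∉ K' := by
      intro hmK
      have hm' : m ∈ (K'.erase P).erase y := mem_erase.2 ⟨fun e => hyW (e ▸ hm),
        mem_erase.2 ⟨fun e => hPW (e ▸ hm), hmK⟩⟩
      obtain ⟨z, hz, hzm⟩ := exists_mem_ne (show 1 < ((K'.erase P).erase y).card by omega) m
      have hz' : z ∈ Wx m := by rw [hWm]; exact mem_erase.2 ⟨hzm, hsub hz⟩
      exact (memWx.1 hz').2.2 (hc m hmK z (mem_of_mem_erase (mem_of_mem_erase hz)) (Ne.symm hzm))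
    refine eq_of_subset_of_card_le (fun z hz => ?_) (by omega)
    simp only [K, mem_insert, mem_erase]
    by_cases h1 : z = P
    · exact Or.inl h1
    by_cases h2 : z = y
    · exact Or.inr (Or.inl h2)
    exact Or.inr (Or.inr ⟨fun e => hmK (e ▸ hz), hsub (mem_erase.2 ⟨h2, mem_erase.2 ⟨h1, hz⟩⟩)⟩)

/-- Each point lies in two of the six five-sets, and two related points in one. -/
theorem Pairs15.counts (h : Pairs15 R) (P : Q) :
    let F := ((univ : Finset Q).powersetCard 5).filter fun K => ∀ a ∈ K, ∀ b ∈ K, a ≠ b → R a b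
    F.card = 6 ∧ (F.filter (P ∈ ·)).card = 2 ∧
      ∀ y, y ≠ P → (F.filter fun K => P ∈ K ∧ y ∈ K).card = if R P y then 1 else 0 := by
  classical
  intro F
  have memF : ∀ {K}, K ∈ F ↔ K.card = 5 ∧ ∀ a ∈ K, ∀ b ∈ K, a ≠ b → R a b := fun {K} => by
    simp [F, mem_powersetCard]
  have hpair : ∀ a y, y ≠ a → (F.filter fun K => a ∈ K ∧ y ∈ K).card = if R a y then 1 else 0 := by
    intro a y hya
    split_ifs with hR
    · obtain ⟨K, h1, h2, h3, h4, h5⟩ := h.exists_unique_five hR
      rw [card_eq_one]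
      refine ⟨K, eq_singleton_iff_unique_mem.2 ⟨mem_filter.2 ⟨memF.2 ⟨h3, h4⟩, h1, h2⟩, fun K' hK' => ?_⟩⟩
      rw [mem_filter, memF] at hK'
      exact h5 K' hK'.2.1 hK'.2.2 hK'.1.1 hK'.1.2
    · rw [card_eq_zero, filter_eq_empty_iff]
      exact fun K hK hh => hR ((memF.1 hK).2 a hh.1 y hh.2 (Ne.symm hya))
  have hpt : ∀ a, (F.filter (a ∈ ·)).card = 2 := by
    intro a
    have e : ∑ y ∈ univ.erase a, (F.filter fun K => a ∈ K ∧ y ∈ K).card = 8 := by
      rw [Finset.sum_congr rfl fun y hy => hpair a y (ne_of_mem_erase hy), Finset.sum_boole, Nat.cast_id, ← h.deg a]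
      congr 1
      ext y
      simp only [mem_filter, mem_erase, mem_univ, and_true, true_and]
      exact ⟨fun hh => hh.2, fun hh => ⟨fun e => h.irrefl a (e ▸ hh), hh⟩⟩
    have e2 : ∑ y ∈ univ.erase a, (F.filter fun K => a ∈ K ∧ y ∈ K).card = 4 * (F.filter (a ∈ ·)).card := by
      simp only [card_filter]
      rw [Finset.sum_comm, Finset.mul_sum]
      refine Finset.sum_congr rfl fun K hK => ?_
      rw [Finset.sum_boole, Nat.cast_id]
      split_ifs with haK
      · rw [show (univ.erase a).filter (fun y => a ∈ K ∧ y ∈ K) = K.erase a by ext z; simp [haK],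
          card_erase_of_mem haK, (memF.1 hK).1, mul_one]
      · simp [haK]
    omega
  refine ⟨?_, hpt P, hpair P⟩
  have e : ∑ a : Q, (F.filter (a ∈ ·)).card = 5 * F.card := by
    simp only [card_filter]
    rw [Finset.sum_comm, Finset.card_eq_sum_ones F, Finset.mul_sum]
    refine Finset.sum_congr rfl fun K hK => ?_
    rw [Finset.sum_boole, Nat.cast_id, filter_mem_eq_inter, univ_inter, (memF.1 hK).1, mul_one]
  rw [Finset.sum_congr rfl fun a _ => hpt a, Finset.sum_const, card_univ, h.card, smul_eq_mul] at e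
  omega

end Cfsg.Lib.SRG77
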