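import Cfsg.Agent.Steiner.SRG77.Basic
import Cfsg.Agent.Steiner.SRG77.Quad

/-!
The fifteen classes of non-neighbours of a vertex of a strongly regular graph with parameters (77, 16, 0, 4).
-/

set_option autoImplicit false

namespace Cfsg.Lib.SRG77

open Finset SimpleGraph

universe u

variable {V : Type u} [Fintype V] [DecidableEq V] {G : SimpleGraph V} [DecidableRel G.Adj]

/-- The other non-neighbours of `o`. -/
def non (G : SimpleGraph V) [DecidableRel G.Adj] (o : V) : Finset V := univ.filter fun v => v ≠ o ∧ ¬ G.Adj o v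

/-- The common neighbours with `o`. -/
def trace (G : SimpleGraph V) [DecidableRel G.Adj] (o b : V) : Finset V := G.neighborFinset o ∩ G.neighborFinset b

/-- The number of common neighbours of three vertices. -/
def meet3 (G : SimpleGraph V) [DecidableRel G.Adj] (o b e : V) : ℤ := ((trace G o b ∩ trace G o e).card : ℤ)

/-- The invariant of two non-neighbours of `o`. -/
def inv2 (G : SimpleGraph V) [DecidableRel G.Adj] (o b e : V) : ℤ := 2 * ent G b e - meet3 G o b e

/-- The class of `b`. -/
def cls (G : SimpleGraph V) [DecidableRel G.Adj] (o b : V) : Finset V :=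
  (non G o).filter fun e => inv2 G o b e = 2

theorem mem_non {o v : V} : v ∈ non G o ↔ v ≠ o ∧ ¬ G.Adj o v := by simp [non]

theorem meet3_comm (o b e : V) : meet3 G o b e = meet3 G o e b := by rw [meet3, meet3, inter_comm]

theorem inv2_comm (o b e : V) : inv2 G o b e = inv2 G o e b := by rw [inv2, inv2, ent_comm, meet3_comm]

theorem card_non (h : G.IsSRGWith 77 16 0 4) (o : V) : (non G o).card = 60 := by
  have e : non G o = (insert o (G.neighborFinset o))ᶜ := by ext v; simp [non, and_comm]
  rw [e, card_compl, h.card, card_insert_of_notMem (by simp), card_nbhd h]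

theorem cases_vertex (o u : V) : u = o ∨ G.Adj o u ∨ u ∈ non G o := by
  rw [mem_non]; tauto

theorem nbhd_inter_non (o : V) {a : V} (h : G.IsSRGWith 77 16 0 4) (ha : G.Adj o a) :
    G.neighborFinset a ∩ non G o = (G.neighborFinset a).erase o := by
  ext v
  simp only [mem_inter, mem_neighborFinset, mem_non, mem_erase]
  exact ⟨fun x => ⟨x.2.1, x.1⟩, fun x => ⟨x.2, x.1, fun hov => no_triangle h ha hov x.2⟩⟩

theorem card_trace (h : G.IsSRGWith 77 16 0 4) {o b : V} (hb : b ∈ non G o) : (trace G o b).card = 4 :=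
  card_common h (mem_non.1 hb).1.symm (mem_non.1 hb).2

theorem mem_trace {o b a : V} : a ∈ trace G o b ↔ G.Adj o a ∧ G.Adj b a := by simp [trace]

theorem meet3_eq_sum (o b e : V) : meet3 G o b e = ∑ a ∈ trace G o b, adjZ G a e := by
  simp only [adjZ]
  rw [Finset.sum_boole, meet3]
  congr 2
  ext a
  simp only [mem_inter, mem_filter, mem_trace, G.adj_comm a e]
  tauto

theorem meet3_le (h : G.IsSRGWith 77 16 0 4) {o b e : V} (hb : b ∈ non G o) (he : e ∈ non G o) (hne : b ≠ e) :
    meet3 G o b e ≤ 2 := by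
  by_contra hc
  rw [meet3] at hc
  obtain ⟨X, hX, hX3⟩ := exists_subset_card_eq (show 3 ≤ (trace G o b ∩ trace G o e).card by omega)
  refine no_k33 h hX3 (Y := {o, b, e})
    (card_eq_three.2 ⟨o, b, e, (mem_non.1 hb).1.symm, (mem_non.1 he).1.symm, hne, rfl⟩) fun a ha y hy => ?_
  have ha' := hX ha
  rw [mem_inter, mem_trace, mem_trace] at ha'
  simp only [mem_insert, mem_singleton] at hy
  rcases hy with rfl | rfl | rfl
  · exact ha'.1.1.symm
  · exact ha'.1.2.symm
  · exact ha'.2.2.symm

theorem meet3_self (h : G.IsSRGWith 77 16 0 4) {o b : V} (hb : b ∈ non G o) : meet3 G o b b = 4 := by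
  rw [meet3, inter_self, card_trace h hb]; rfl

theorem meet3_adj (h : G.IsSRGWith 77 16 0 4) {o b e : V} (ha : G.Adj b e) : meet3 G o b e = 0 := by
  rw [meet3, Int.natCast_eq_zero, card_eq_zero, eq_empty_iff_forall_notMem]
  intro a hh
  rw [mem_inter, mem_trace, mem_trace] at hh
  exact no_triangle h ha hh.1.2 hh.2.2

theorem inv2_self (h : G.IsSRGWith 77 16 0 4) {o b : V} (hb : b ∈ non G o) : inv2 G o b b = 2 := by
  rw [inv2, ent_self, meet3_self h hb]; norm_num

theorem inv2_ne (h : G.IsSRGWith 77 16 0 4) {o b e : V} (hb : b ∈ non G o) (he : e ∈ non G o) (hne : b ≠ e) :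
    (inv2 G o b e = 0 ∨ inv2 G o b e = 1 ∨ inv2 G o b e = 2) ∧
    (inv2 G o b e = 2 ↔ ¬ G.Adj b e ∧ meet3 G o b e = 0) ∧
    (inv2 G o b e = 1 ↔ ¬ G.Adj b e ∧ meet3 G o b e = 1) := by
  have h0 : 0 ≤ meet3 G o b e := Int.natCast_nonneg _
  have h2 := meet3_le h hb he hne
  rw [inv2]
  by_cases ha : G.Adj b e
  · simp [ent_adj ha, meet3_adj h ha, ha]
  · rw [ent_non hne ha]
    simp only [ha, not_false_eq_true, true_and]
    omega

theorem inv2_mem (h : G.IsSRGWith 77 16 0 4) {o b e : V} (hb : b ∈ non G o) (he : e ∈ non G o) :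
    inv2 G o b e = 0 ∨ inv2 G o b e = 1 ∨ inv2 G o b e = 2 := by
  rcases eq_or_ne b e with rfl | hne
  · exact Or.inr (Or.inr (inv2_self h hb))
  · exact (inv2_ne h hb he hne).1

theorem mem_cls {o b e : V} : e ∈ cls G o b ↔ e ∈ non G o ∧ inv2 G o b e = 2 := by simp [cls]

theorem sum_meet3 (h : G.IsSRGWith 77 16 0 4) {o b : V} (hb : b ∈ non G o) :
    ∑ e ∈ non G o, meet3 G o b e = 60 := by
  simp only [meet3_eq_sum]
  rw [Finset.sum_comm, Finset.sum_congr rfl (g := fun _ => (15 : ℤ)) fun a ha => by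
    rw [sum_adjZ, nbhd_inter_non o h (mem_trace.1 ha).1, card_erase_of_mem
      (by simpa using (mem_trace.1 ha).1.symm), card_nbhd h]; rfl]
  simp [card_trace h hb]

theorem sum_meet3_sq (h : G.IsSRGWith 77 16 0 4) {o b : V} (hb : b ∈ non G o) :
    ∑ e ∈ non G o, meet3 G o b e ^ 2 = 96 := by
  simp only [meet3_eq_sum, sq, Finset.sum_mul_sum]
  rw [Finset.sum_comm]
  have key : ∀ a ∈ trace G o b, ∑ e ∈ non G o, ∑ a' ∈ trace G o b, adjZ G a e * adjZ G a' e = 24 := by
    intro a ha
    rw [Finset.sum_comm]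
    have e : ∀ a' ∈ trace G o b, ∑ e ∈ non G o, adjZ G a e * adjZ G a' e = (if a = a' then 12 else 0) + 3 := by
      intro a' ha'
      have e1 : ∑ e ∈ non G o, adjZ G a e * adjZ G a' e
          = (((G.neighborFinset a ∩ G.neighborFinset a') ∩ non G o).card : ℤ) := by
        simp only [adjZ, ite_mul, one_mul, zero_mul, ← ite_and]
        rw [Finset.sum_boole]
        congr 2
        ext v
        simp; tauto
      have e2 : (G.neighborFinset a ∩ G.neighborFinset a') ∩ non G o
          = (G.neighborFinset a ∩ G.neighborFinset a').erase o := by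
        rw [← inter_self (G.neighborFinset a), inter_assoc, inter_assoc, inter_comm (G.neighborFinset a') (non G o),
          ← inter_assoc (G.neighborFinset a) (non G o), nbhd_inter_non o h (mem_trace.1 ha).1]
        ext v; simp; tauto
      have hmem : o ∈ G.neighborFinset a ∩ G.neighborFinset a' := by
        simp [(mem_trace.1 ha).1.symm, (mem_trace.1 ha').1.symm]
      rw [e1, e2, card_erase_of_mem hmem]
      rcases eq_or_ne a a' with rfl | hne
      · rw [inter_self, card_nbhd h]; simp
      · rw [card_common h hne (no_triangle h (mem_trace.1 ha).1 (mem_trace.1 ha').1)]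
        simp [hne]
    rw [Finset.sum_congr rfl e, Finset.sum_add_distrib, Finset.sum_ite_eq, if_pos ha]
    simp [card_trace h hb]
  rw [Finset.sum_congr rfl key]
  simp [card_trace h hb]

theorem card_nbhd_non (h : G.IsSRGWith 77 16 0 4) {o b : V} (hb : b ∈ non G o) :
    (G.neighborFinset b ∩ non G o).card = 12 := by
  have hd : G.neighborFinset b ∩ non G o = G.neighborFinset b \ G.neighborFinset o := by
    ext v
    simp only [mem_inter, mem_sdiff, mem_neighborFinset, mem_non]
    exact ⟨fun x => ⟨x.1, x.2.2⟩, fun x => ⟨x.1, fun e => (mem_non.1 hb).2 (e ▸ x.1).symm, x.2⟩⟩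
  rw [hd, card_sdiff, card_nbhd h]
  show 16 - (trace G o b).card = 12
  rw [card_trace h hb]

theorem sum_inv2 (h : G.IsSRGWith 77 16 0 4) {o b : V} (hb : b ∈ non G o) :
    ∑ e ∈ non G o, inv2 G o b e = 40 := by
  simp only [inv2, Finset.sum_sub_distrib, ← Finset.mul_sum, sum_meet3 h hb]
  simp only [ent, Finset.sum_sub_distrib, Finset.sum_add_distrib, Finset.sum_ite_eq, if_pos hb, sum_adjZ,
    card_nbhd_non h hb, Finset.sum_const, card_non h]
  norm_num

theorem card_cls (h : G.IsSRGWith 77 16 0 4) {o b : V} (hb : b ∈ non G o) : (cls G o b).card = 4 := by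
  have hbc : b ∈ cls G o b := mem_cls.2 ⟨hb, inv2_self h hb⟩
  have hz : (((non G o).erase b).filter fun e => meet3 G o b e = 0).card = 15 := by
    have hs : ∑ e ∈ (non G o).erase b, (meet3 G o b e - 1) * (meet3 G o b e - 2) = 30 := by
      rw [Finset.sum_congr rfl fun e _ => show (meet3 G o b e - 1) * (meet3 G o b e - 2)
          = meet3 G o b e ^ 2 - 3 * meet3 G o b e + 2 by ring,
        Finset.sum_add_distrib, Finset.sum_sub_distrib, ← Finset.mul_sum, Finset.sum_erase_eq_sub hb,
        Finset.sum_erase_eq_sub hb, sum_meet3 h hb, sum_meet3_sq h hb, meet3_self h hb]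
      simp [card_erase_of_mem hb, card_non h]
    rw [Finset.sum_congr rfl (g := fun e => if meet3 G o b e = 0 then (2 : ℤ) else 0) fun e he => by
      have h0 : 0 ≤ meet3 G o b e := Int.natCast_nonneg _
      have h2 := meet3_le h hb (mem_of_mem_erase he) (ne_of_mem_erase he).symm
      rcases (show meet3 G o b e = 0 ∨ meet3 G o b e = 1 ∨ meet3 G o b e = 2 by omega) with e' | e' | e' <;>
        simp [e'],
      Finset.sum_ite, Finset.sum_const_zero, add_zero, Finset.sum_const, nsmul_eq_mul] at hs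
    omega
  have he : (cls G o b).erase b = (((non G o).erase b).filter fun e => meet3 G o b e = 0) \
      (G.neighborFinset b ∩ non G o) := by
    ext e
    simp only [mem_erase, mem_cls, mem_sdiff, mem_filter, mem_inter, mem_neighborFinset]
    constructor
    · rintro ⟨hne, he, h2⟩
      obtain ⟨h3, h4⟩ := (inv2_ne h hb he (Ne.symm hne)).2.1.1 h2
      exact ⟨⟨⟨hne, he⟩, h4⟩, fun hh => h3 hh.1⟩
    · rintro ⟨⟨⟨hne, he⟩, h0⟩, hn⟩
      exact ⟨hne, he, (inv2_ne h hb he (Ne.symm hne)).2.1.2 ⟨fun hh => hn ⟨hh, he⟩, h0⟩⟩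
  have hsub : G.neighborFinset b ∩ non G o ⊆ ((non G o).erase b).filter fun e => meet3 G o b e = 0 := by
    intro e he'
    simp only [mem_inter, mem_neighborFinset] at he'
    exact mem_filter.2 ⟨mem_erase.2 ⟨he'.1.ne.symm, he'.2⟩, meet3_adj h he'.1⟩
  have := congrArg card he
  rw [card_erase_of_mem hbc, card_sdiff_of_subset hsub, hz, card_nbhd_non h hb] at this
  omega

theorem sum_inv2_sq (h : G.IsSRGWith 77 16 0 4) {o b : V} (hb : b ∈ non G o) :
    ∑ e ∈ non G o, inv2 G o b e * inv2 G o b e = 48 := by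
  have e : ∀ e ∈ non G o, inv2 G o b e * inv2 G o b e = inv2 G o b e + if inv2 G o b e = 2 then 2 else 0 := by
    intro e he
    rcases inv2_mem h hb he with x | x | x <;> simp [x]
  rw [Finset.sum_congr rfl e, Finset.sum_add_distrib, sum_inv2 h hb, Finset.sum_ite, Finset.sum_const_zero]
  have := card_cls h hb
  rw [cls] at this
  simp [this]

/-- The vector joining `b` and `c`. -/
def dvec (G : SimpleGraph V) [DecidableRel G.Adj] (o b c : V) (u : V) : ℤ :=
  2 * (if u = b then 1 else 0) - 2 * (if u = c then 1 else 0) + (if u ∈ trace G o b then 1 else 0)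
    - (if u ∈ trace G o c then 1 else 0)

theorem sum_dvec (h : G.IsSRGWith 77 16 0 4) {o b c : V} (hb : b ∈ non G o) (hc : c ∈ non G o) :
    ∑ u, dvec G o b c u = 0 := by
  simp [dvec, Finset.sum_add_distrib, Finset.sum_sub_distrib, ← Finset.mul_sum,
    Finset.filter_mem_eq_inter, card_trace h hb, card_trace h hc]

theorem app_dvec (o b c u : V) : app G (dvec G o b c) u = 2 * ent G u b - 2 * ent G u c
    + (∑ a ∈ trace G o b, ent G u a) - ∑ a ∈ trace G o c, ent G u a := by
  simp only [app, dvec, mul_add, mul_sub, Finset.sum_add_distrib, Finset.sum_sub_distrib, mul_ite, mul_one, mul_zero,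
    Finset.sum_ite_eq', mem_univ, if_true, Finset.sum_ite_mem, univ_inter]
  ring

theorem sum_ent_trace (h : G.IsSRGWith 77 16 0 4) {o b : V} (hb : b ∈ non G o) (u : V) :
    ∑ a ∈ trace G o b, ent G u a
      = (if u ∈ trace G o b then 2 else 0) + 4 - ∑ a ∈ trace G o b, adjZ G u a := by
  simp [ent, Finset.sum_sub_distrib, Finset.sum_add_distrib, card_trace h hb]

theorem app_dvec_non (h : G.IsSRGWith 77 16 0 4) {o b c u : V} (hb : b ∈ non G o) (hc : c ∈ non G o)
    (hu : u ∈ non G o) : app G (dvec G o b c) u = inv2 G o b u - inv2 G o c u := by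
  have hno : ∀ x, u ∉ trace G o x := fun x hx => (mem_non.1 hu).2 (mem_trace.1 hx).1
  have hm : ∀ x, ∑ a ∈ trace G o x, adjZ G u a = meet3 G o x u := fun x => by
    rw [meet3_eq_sum]; exact Finset.sum_congr rfl fun a _ => adjZ_comm u a
  rw [app_dvec, sum_ent_trace h hb, sum_ent_trace h hc, if_neg (hno b), if_neg (hno c), hm, hm, inv2, inv2,
    ent_comm u b, ent_comm u c]
  ring

theorem app_dvec_other (h : G.IsSRGWith 77 16 0 4) {o b c u : V} (hb : b ∈ non G o) (hc : c ∈ non G o)
    (hu : u ∉ non G o) : app G (dvec G o b c) u = 0 := by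
  rcases cases_vertex (G := G) o u with rfl | hou | h3
  · have z : ∀ x, ∑ a ∈ trace G u x, ent G u a = 0 := fun x =>
      Finset.sum_eq_zero fun a ha => ent_adj (mem_trace.1 ha).1
    rw [app_dvec, z, z, ent_non (mem_non.1 hb).1.symm (mem_non.1 hb).2,
      ent_non (mem_non.1 hc).1.symm (mem_non.1 hc).2]
    ring
  · have z : ∀ x ∈ non G o, 2 * ent G u x + ∑ a ∈ trace G o x, ent G u a = 6 := by
      intro x hx
      have hux : u ≠ x := fun e => (mem_non.1 hx).2 (e ▸ hou)
      have h0 : ∑ a ∈ trace G o x, adjZ G u a = 0 := Finset.sum_eq_zero fun a ha => by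
        simp [adjZ, no_triangle h hou (mem_trace.1 ha).1]
      rw [sum_ent_trace h hx, h0]
      by_cases ha : G.Adj u x
      · rw [ent_adj ha, if_pos (mem_trace.2 ⟨hou, ha.symm⟩)]; ring
      · rw [ent_non hux ha, if_neg fun hh => ha (mem_trace.1 hh).2.symm]; ring
    have hzb := z b hb
    have hzc := z c hc
    rw [app_dvec]
    omega
  · exact absurd h3 hu

theorem inv2_congr (h : G.IsSRGWith 77 16 0 4) {o b c : V} (hb : b ∈ non G o) (hc : c ∈ non G o)
    (hbc : inv2 G o b c = 2) {u : V} (hu : u ∈ non G o) : inv2 G o b u = inv2 G o c u := by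
  have hd := sum_dvec h hb hc
  have hq : ∑ v, dvec G o b c v * app G (dvec G o b c) v = 0 := by
    refine Finset.sum_eq_zero fun v _ => ?_
    by_cases hv : v ∈ non G o
    · rw [app_dvec_non h hb hc hv]
      rcases eq_or_ne v b with rfl | hvb
      · rw [inv2_self h hb, inv2_comm o c v, hbc, sub_self, mul_zero]
      rcases eq_or_ne v c with rfl | hvc
      · rw [inv2_self h hc, hbc, sub_self, mul_zero]
      have hno : ∀ x, v ∉ trace G o x := fun x hx => (mem_non.1 hv).2 (mem_trace.1 hx).1
      simp [dvec, hvb, hvc, hno]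
    · rw [app_dvec_other h hb hc hv, mul_zero]
  have := app_eq_zero h hd hq u
  rw [app_dvec_non h hb hc hu] at this
  omega

theorem cls_eq (h : G.IsSRGWith 77 16 0 4) {o b c : V} (hb : b ∈ non G o) (hc : c ∈ cls G o b) :
    cls G o c = cls G o b := by
  obtain ⟨hc', h2⟩ := mem_cls.1 hc
  ext e
  simp only [mem_cls, and_congr_right_iff]
  intro he
  rw [inv2_congr h hb hc' h2 he]

theorem self_mem_cls (h : G.IsSRGWith 77 16 0 4) {o b : V} (hb : b ∈ non G o) : b ∈ cls G o b :=
  mem_cls.2 ⟨hb, inv2_self h hb⟩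

theorem cls_eq_iff (h : G.IsSRGWith 77 16 0 4) {o b c : V} (hb : b ∈ non G o) (hc : c ∈ non G o) :
    cls G o b = cls G o c ↔ inv2 G o b c = 2 := by
  refine ⟨fun e => ?_, fun h2 => (cls_eq h hb (mem_cls.2 ⟨hc, h2⟩)).symm⟩
  exact (mem_cls.1 (e.symm ▸ self_mem_cls h hc : c ∈ cls G o b)).2

/-- The product of two rows. -/
theorem inv2_mul (h : G.IsSRGWith 77 16 0 4) {o b c : V} (hb : b ∈ non G o) (hc : c ∈ non G o) :
    ∑ e ∈ non G o, inv2 G o b e * inv2 G o c e = 16 * inv2 G o b c + 16 := by
  have key : ∀ g ∈ non G o, ∀ b ∈ non G o, ∀ c ∈ non G o,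
      ∑ e ∈ non G o, inv2 G o g e * (inv2 G o b e - inv2 G o c e) = 16 * (inv2 G o g b - inv2 G o g c) := by
    intro g hg b hb c hc
    set D := app G (dvec G o b c) with hD
    have hzero : ∀ v ∉ non G o, D v = 0 := fun v hv => app_dvec_other h hb hc hv
    have hrestrict : ∀ f : V → ℤ, ∑ v, f v * D v = ∑ v ∈ non G o, f v * D v := fun f =>
      (Finset.sum_subset (subset_univ _) fun v _ hv => by rw [hzero v hv, mul_zero]).symm
    have h8 : ∀ v, ∑ e ∈ non G o, ent G v e * D e = 8 * D v := fun v => by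
      rw [← hrestrict (fun e => ent G v e)]
      show app G D v = 8 * D v
      rw [hD, app_app h, sum_dvec h hb hc, mul_zero, add_zero]
    have hsum : ∑ e ∈ non G o, D e = 0 := by
      have := hrestrict fun _ => 1
      simp only [one_mul] at this
      rw [← this, hD, sum_app h, sum_dvec h hb hc, mul_zero]
    have hA : ∀ a, G.Adj o a → ∑ e ∈ non G o, adjZ G a e * D e = 0 := by
      intro a ha
      have hane : a ∉ non G o := fun x => (mem_non.1 x).2 ha
      have e := h8 a
      rw [hzero a hane, mul_zero, Finset.sum_congr rfl fun v hv => show ent G a v * D v = D v - adjZ G a v * D v by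
        rw [ent, if_neg (fun e' : a = v => hane (e' ▸ hv))]; ring, Finset.sum_sub_distrib, hsum] at e
      omega
    have hT : ∑ e ∈ non G o, meet3 G o g e * D e = 0 := by
      simp only [meet3_eq_sum, Finset.sum_mul]
      rw [Finset.sum_comm]
      exact Finset.sum_eq_zero fun a ha => hA a (mem_trace.1 ha).1
    rw [Finset.sum_congr rfl fun e he => show inv2 G o g e * (inv2 G o b e - inv2 G o c e)
        = 2 * (ent G g e * D e) - meet3 G o g e * D e by
        rw [hD, app_dvec_non h hb hc he, inv2]; ring,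
      Finset.sum_sub_distrib, ← Finset.mul_sum, h8, hT, hD, app_dvec_non h hb hc hg, inv2_comm o b g, inv2_comm o c g]
    ring
  have k := key b hb b hb c hc
  simp only [mul_sub, Finset.sum_sub_distrib] at k
  rw [sum_inv2_sq h hb, inv2_self h hb] at k
  omega

/-- The classes. -/
def classes (G : SimpleGraph V) [DecidableRel G.Adj] (o : V) : Finset (Finset V) := (non G o).image (cls G o)

/-- Two classes meeting in the sense of the invariant. -/
def clsRel (G : SimpleGraph V) [DecidableRel G.Adj] (o : V) (K L : classes G o) : Prop :=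
  ∃ b ∈ K.1, ∃ e ∈ L.1, inv2 G o b e = 1

instance (o : V) : DecidableRel (clsRel G o) := fun _ _ => inferInstanceAs (Decidable (∃ _ ∈ _, _))

/-- The class of a non-neighbour. -/
def toCls (o : V) (b : non G o) : classes G o := ⟨cls G o b.1, mem_image_of_mem _ b.2⟩

theorem toCls_surj (o : V) (K : classes G o) : ∃ b : non G o, toCls o b = K := by
  obtain ⟨b, hb, e⟩ := mem_image.1 K.2
  exact ⟨⟨b, hb⟩, Subtype.ext e⟩

theorem clsRel_iff (h : G.IsSRGWith 77 16 0 4) {o : V} (b e : non G o) :
    clsRel G o (toCls o b) (toCls o e) ↔ inv2 G o b.1 e.1 = 1 := by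
  refine ⟨fun ⟨b', hb', e', he', h1⟩ => ?_, fun h1 => ⟨b.1, self_mem_cls h b.2, e.1, self_mem_cls h e.2, h1⟩⟩
  obtain ⟨hb'n, hb2⟩ := mem_cls.1 hb'
  obtain ⟨he'n, he2⟩ := mem_cls.1 he'
  rw [inv2_congr h b.2 hb'n hb2 e.2, inv2_comm, inv2_congr h e.2 he'n he2 hb'n, inv2_comm]
  exact h1

theorem mem_iff_toCls (h : G.IsSRGWith 77 16 0 4) {o : V} (K : classes G o) (b : non G o) :
    b.1 ∈ K.1 ↔ toCls o b = K := by
  obtain ⟨c, rfl⟩ := toCls_surj o K
  constructor
  · exact fun hb => Subtype.ext (cls_eq h c.2 hb)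
  · intro e
    rw [← e]
    exact self_mem_cls h b.2

theorem card_classes (h : G.IsSRGWith 77 16 0 4) (o : V) : (classes G o).card = 15 := by
  have e := Finset.card_eq_sum_card_image (cls G o) (non G o)
  rw [Finset.sum_congr rfl (g := fun _ => 4) fun K hK => by
    obtain ⟨b, hb, rfl⟩ := mem_image.1 hK
    rw [← card_cls h hb]
    congr 1
    ext c
    simp only [mem_filter]
    exact ⟨fun x => x.2 ▸ self_mem_cls h x.1, fun x => ⟨(mem_cls.1 x).1, cls_eq h hb x⟩⟩] at e
  rw [card_non h, Finset.sum_const, smul_eq_mul] at e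
  change 60 = (classes G o).card * 4 at e
  omega

theorem sum_by_class (h : G.IsSRGWith 77 16 0 4) (o : V) (f : classes G o → ℤ) (φ : V → ℤ)
    (hφ : ∀ b : non G o, φ b.1 = f (toCls o b)) : ∑ e ∈ non G o, φ e = 4 * ∑ K, f K := by
  rw [← Finset.sum_coe_sort (non G o), Finset.sum_congr rfl fun b _ => hφ b,
    ← Finset.sum_fiberwise (s := univ) (g := toCls o) (f := fun b => f (toCls o b)), Finset.mul_sum]
  refine Finset.sum_congr rfl fun K _ => ?_
  rw [Finset.sum_congr rfl (g := fun _ => f K) fun b hb => by rw [(mem_filter.1 hb).2], Finset.sum_const,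
    nsmul_eq_mul]
  have : ((univ : Finset (non G o)).filter fun b => toCls o b = K).card = 4 := by
    obtain ⟨c, hc⟩ := toCls_surj o K
    rw [← card_cls h c.2, ← Finset.card_map (Function.Embedding.subtype (· ∈ non G o))]
    congr 1
    ext v
    simp only [mem_map, mem_filter, mem_univ, true_and, Function.Embedding.subtype_apply]
    constructor
    · rintro ⟨b, hb, rfl⟩
      exact (mem_iff_toCls h (toCls o c) b).2 (hb.trans hc.symm)
    · intro hv
      exact ⟨⟨v, (mem_cls.1 hv).1⟩, ((mem_iff_toCls h (toCls o c) ⟨v, (mem_cls.1 hv).1⟩).1 hv).trans hc, rfl⟩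
  rw [this]
  norm_num

theorem pairs15 (h : G.IsSRGWith 77 16 0 4) (o : V) : Pairs15 (clsRel G o) := by
  refine ⟨by rw [Fintype.card_coe, card_classes h], fun K L => ?_, fun K => ?_, fun K => ?_, fun K L hne => ?_⟩
  · rintro ⟨b, hb, e, he, h1⟩
    exact ⟨e, he, b, hb, by rw [inv2_comm]; exact h1⟩
  · obtain ⟨b, rfl⟩ := toCls_surj o K
    rw [clsRel_iff h, inv2_self h b.2]
    norm_num
  · obtain ⟨b, rfl⟩ := toCls_surj o K
    have e := sum_by_class h o (fun L => if clsRel G o (toCls o b) L then 1 else 0)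
      (fun e => if inv2 G o b.1 e = 1 then 1 else 0) fun e => by simp [clsRel_iff h]
    have e2 : ∑ e ∈ non G o, (if inv2 G o b.1 e = 1 then (1 : ℤ) else 0) = 32 := by
      have h1 := sum_inv2 h b.2
      rw [Finset.sum_congr rfl fun e he => show inv2 G o b.1 e =
          (if inv2 G o b.1 e = 1 then 1 else 0) + (if inv2 G o b.1 e = 2 then 2 else 0) by
          rcases inv2_mem h b.2 he with x | x | x <;> simp [x],
        Finset.sum_add_distrib, Finset.sum_ite (p := fun e => inv2 G o b.1 e = 2), Finset.sum_const_zero, add_zero,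
        Finset.sum_const] at h1
      have h4 := card_cls h b.2
      rw [cls] at h4
      rw [h4] at h1
      norm_num at h1 ⊢
      omega
    rw [e2, Finset.sum_boole] at e
    have e3 : ({x | clsRel G o (toCls o b) x} : Finset _).card = 8 := by omega
    convert e3 using 3
  · obtain ⟨b, rfl⟩ := toCls_surj o K
    obtain ⟨c, rfl⟩ := toCls_surj o L
    set x := inv2 G o b.1 c.1 with hx
    have hx2 : x ≠ 2 := fun e => hne (Subtype.ext ((cls_eq_iff h b.2 c.2).2 e))
    have e := sum_by_class h o
      (fun L => (if clsRel G o (toCls o b) L ∧ clsRel G o (toCls o c) L then 1 else 0)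
        + (if L = toCls o b then 2 * x else 0) + (if L = toCls o c then 2 * x else 0))
      (fun e => inv2 G o b.1 e * inv2 G o c.1 e) fun e => by
        have ib : toCls o e = toCls o b ↔ inv2 G o b.1 e.1 = 2 := by
          rw [eq_comm, ← cls_eq_iff h b.2 e.2]; exact Subtype.ext_iff
        have ic : toCls o e = toCls o c ↔ inv2 G o c.1 e.1 = 2 := by
          rw [eq_comm, ← cls_eq_iff h c.2 e.2]; exact Subtype.ext_iff
        simp only [clsRel_iff h, ib, ic]
        by_cases hb2 : inv2 G o b.1 e.1 = 2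
        · have hc : inv2 G o c.1 e.1 = x := by
            rw [hx, inv2_comm o c.1 e.1, ← inv2_congr h b.2 e.2 hb2 c.2]
          rw [hb2, hc, if_neg (by norm_num), if_pos rfl, if_neg hx2]; ring
        by_cases hc2 : inv2 G o c.1 e.1 = 2
        · have hbe : inv2 G o b.1 e.1 = x := by
            rw [hx, inv2_comm o b.1 e.1, ← inv2_congr h c.2 e.2 hc2 b.2, inv2_comm]
          rw [hc2, hbe, if_neg (by norm_num), if_neg hx2, if_pos rfl]; ring
        rcases inv2_mem h b.2 e.2 with p | p | p <;> rcases inv2_mem h c.2 e.2 with q | q | q <;>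
          simp_all
    rw [inv2_mul h b.2 c.2, ← hx, Finset.sum_add_distrib, Finset.sum_add_distrib, Finset.sum_boole,
      Finset.sum_ite_eq', Finset.sum_ite_eq', if_pos (mem_univ _), if_pos (mem_univ _)] at e
    omega

end Cfsg.Lib.SRG77
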